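import Cfsg.Agent.H374.Ore.Sl3
import Cfsg.Agent.H864.Ore.GlComm

/-!
# `SL_3(K)`: products of two irreducible elements, the elements with characteristic polynomial `(X - c)³` (helper143)

* `m3_unip` : `c` times a unipotent element (not scalar), for every finite field;
* `m3_one`, `m3_irr` : the identity and the irreducible elements.
-/

set_option autoImplicit false
set_option linter.unusedSectionVars false

namespace Cfsg.Agent.H143.Fact

open Matrix Polynomial Cfsg.Agent.H374.Ore.Sl3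

variable {K : Type*} [Field K]

/-- the conclusion: `l` is a product of two irreducible elements, of equal or inverse types -/
def M3 (l : SpecialLinearGroup (Fin 3) K) : Prop :=
  ∃ A B : SpecialLinearGroup (Fin 3) K, l = A * B ∧ Irreducible A.1.charpoly ∧ Irreducible B.1.charpoly ∧
    (B.1.charpoly = A.1.charpoly ∨ B.1.charpoly = (A⁻¹).1.charpoly)

/-- conjugation of an element of `SL` by an element of `GL` -/
noncomputable def cjG (R : GL (Fin 3) K) : SpecialLinearGroup (Fin 3) K →* SpecialLinearGroup (Fin 3) K where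
  toFun A := ⟨(R : Matrix (Fin 3) (Fin 3) K) * A.1 * ((R⁻¹ : GL (Fin 3) K) : Matrix (Fin 3) (Fin 3) K), by
    rw [Matrix.det_mul, Matrix.det_mul, A.2, mul_one, ← Matrix.det_mul, ← Units.val_mul, mul_inv_cancel,
      Units.val_one, Matrix.det_one]⟩
  map_one' := by
    apply Subtype.ext
    change (R : Matrix (Fin 3) (Fin 3) K) * 1 * ((R⁻¹ : GL (Fin 3) K) : Matrix (Fin 3) (Fin 3) K) = 1
    rw [mul_one, ← Units.val_mul, mul_inv_cancel, Units.val_one]
  map_mul' A B := by
    apply Subtype.ext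
    change (R : Matrix (Fin 3) (Fin 3) K) * (A.1 * B.1) * ((R⁻¹ : GL (Fin 3) K) : Matrix (Fin 3) (Fin 3) K) =
      (R : Matrix (Fin 3) (Fin 3) K) * A.1 * ((R⁻¹ : GL (Fin 3) K) : Matrix (Fin 3) (Fin 3) K) *
      ((R : Matrix (Fin 3) (Fin 3) K) * B.1 * ((R⁻¹ : GL (Fin 3) K) : Matrix (Fin 3) (Fin 3) K))
    have h : ((R⁻¹ : GL (Fin 3) K) : Matrix (Fin 3) (Fin 3) K) * (R : Matrix (Fin 3) (Fin 3) K) = 1 := by
      rw [← Units.val_mul, inv_mul_cancel, Units.val_one]
    calc _ = (R : Matrix (Fin 3) (Fin 3) K) * A.1 * 1 * B.1 * ((R⁻¹ : GL (Fin 3) K) : Matrix (Fin 3) (Fin 3) K) := by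
          simp only [mul_one, mul_assoc]
      _ = _ := by rw [← h]; simp only [mul_assoc]

theorem cjG_coe (R : GL (Fin 3) K) (A : SpecialLinearGroup (Fin 3) K) :
    (cjG R A).1 = (R : Matrix (Fin 3) (Fin 3) K) * A.1 * ((R⁻¹ : GL (Fin 3) K) : Matrix (Fin 3) (Fin 3) K) := rfl

theorem charpoly_cj (R : GL (Fin 3) K) (A : SpecialLinearGroup (Fin 3) K) : (cjG R A).1.charpoly = A.1.charpoly := by
  rw [cjG_coe, Matrix.coe_units_inv]
  exact Matrix.charpoly_units_conj R A.1

theorem M3.conj {l : SpecialLinearGroup (Fin 3) K} (h : M3 l) (R : GL (Fin 3) K) : M3 (cjG R l) := by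
  obtain ⟨A, B, rfl, h1, h2, h3⟩ := h
  have hA := charpoly_cj R A
  have hB := charpoly_cj R B
  have hA' := charpoly_cj R A⁻¹
  have e : (cjG R A)⁻¹ = cjG R A⁻¹ := ((cjG R).map_inv A).symm
  refine ⟨cjG R A, cjG R B, (cjG R).map_mul A B, ?_, ?_, ?_⟩
  · exact hA.symm ▸ h1
  · exact hB.symm ▸ h2
  · rw [e]
    rcases h3 with h3 | h3
    · left; exact hB.trans (h3.trans hA.symm)
    · right; exact hB.trans (h3.trans hA'.symm)

/-- `l` similar to `m` through an invertible matrix -/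
theorem M3.of_sim {l m : SpecialLinearGroup (Fin 3) K} (h : M3 m) {P : Matrix (Fin 3) (Fin 3) K} (hP : P.det ≠ 0)
    (hlm : l.1 * P = P * m.1) : M3 l := by
  have hu : IsUnit P.det := isUnit_iff_ne_zero.2 hP
  let R : GL (Fin 3) K := P.nonsingInvUnit hu
  have hR : (R : Matrix (Fin 3) (Fin 3) K) = P := rfl
  have e : l = cjG R m := by
    apply Subtype.ext
    rw [cjG_coe, hR, ← hlm, mul_assoc, ← hR, ← Units.val_mul, mul_inv_cancel, Units.val_one, mul_one]
  rw [e]
  exact h.conj R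

/-! ### an irreducible polynomial `X³ + s X - 1` -/

theorem exists_s [Finite K] : ∃ s : K, ∀ k : K, k ^ 3 + s * k - 1 ≠ 0 := by
  classical
  by_contra hcon
  push Not at hcon
  choose r hr using hcon
  have hr0 : ∀ s, r s ≠ 0 := by
    intro s h
    have := hr s
    rw [h] at this
    norm_num at this
  have hinj : Function.Injective (fun s => Units.mk0 (r s) (hr0 s)) := by
    intro s s' h
    have h1 : r s = r s' := congrArg Units.val h
    have h2 := hr s
    have h3 := hr s'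
    rw [← h1] at h3
    have h4 : (s - s') * r s = 0 := by linear_combination h2 - h3
    exact sub_eq_zero.1 ((mul_eq_zero.1 h4).resolve_right (hr0 s))
  have := Fintype.ofFinite K
  have h1 := Fintype.card_le_of_injective _ hinj
  rw [Fintype.card_units] at h1
  have h2 : 0 < Fintype.card K := Fintype.card_pos
  omega

/-- `c` times the companion matrix product -/
theorem m3_base {s : K} (hs : ∀ k : K, k ^ 3 + s * k - 1 ≠ 0) (l Z B : SpecialLinearGroup (Fin 3) K)
    (hZ1 : tr3 Z.1 = 0) (hZ2 : ms3 Z.1 = s) (hl : Z * l = B)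
    (hB : (tr3 B.1 = 0 ∧ ms3 B.1 = s) ∨ (tr3 B.1 = s ∧ ms3 B.1 = 0)) : M3 l := by
  have hinv : ∀ k : K, k ^ 3 - s * k ^ 2 + 0 * k - 1 ≠ 0 := by
    intro k h
    have hk : k ≠ 0 := by
      rintro rfl
      norm_num at h
    apply hs k⁻¹
    have : k ^ 3 * (k⁻¹ ^ 3 + s * k⁻¹ - 1) = -(k ^ 3 - s * k ^ 2 + 0 * k - 1) := by
      field_simp
      ring
    rw [h, neg_zero] at this
    exact (mul_eq_zero.1 this).resolve_left (pow_ne_zero _ hk)
  have hs' : ∀ k : K, k ^ 3 - 0 * k ^ 2 + s * k - 1 ≠ 0 := by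
    intro k h
    apply hs k
    linear_combination h
  have hZc := charpoly3 Z.1
  have hAc := charpoly_inv3 Z
  rw [hZ1, hZ2, Z.2] at hZc
  rw [hZ1, hZ2] at hAc
  have hA3 : tr3 (Z⁻¹).1 = s ∧ ms3 (Z⁻¹).1 = 0 := by
    have h1 := charpoly3 (Z⁻¹).1
    rw [hAc] at h1
    constructor
    · have := congrArg (fun p => p.coeff 2) h1
      simp [coeff_one] at this
      exact this.symm
    · have := congrArg (fun p => p.coeff 1) h1
      simp [coeff_one, coeff_C] at this
      exact this.symm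
  refine ⟨Z⁻¹, B, by rw [← hl, inv_mul_cancel_left], ?_, ?_, ?_⟩
  · apply irr3 _ (Z⁻¹).2
    rw [hA3.1, hA3.2]
    exact hinv
  · apply irr3 _ B.2
    rcases hB with h | h
    · rw [h.1, h.2]; exact hs'
    · rw [h.1, h.2]; exact hinv
  · rw [inv_inv]
    rcases hB with h | h
    · right
      rw [hZc, charpoly3 B.1, h.1, h.2, B.2]
    · left
      rw [hAc, charpoly3 B.1, h.1, h.2, B.2]

/-- the companion matrix of `X³ + s X - 1` -/
def ZZ (s : K) : SpecialLinearGroup (Fin 3) K := ⟨!![0, 0, 1; 1, 0, -s; 0, 1, 0], by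
  rw [Matrix.det_fin_three]; simp⟩

theorem tr_ZZ (s : K) : tr3 (ZZ s).1 = 0 := by simp [tr3, ZZ]

theorem ms_ZZ (s : K) : ms3 (ZZ s).1 = s := by simp [ms3, ZZ]

/-! ### the models -/

/-- `c` times a regular unipotent matrix -/
def regM (c e : K) (hc : c ^ 3 = 1) : SpecialLinearGroup (Fin 3) K := ⟨!![c, c, c * e; 0, c, -c; 0, 0, c], by
  rw [Matrix.det_fin_three]; simp; linear_combination hc⟩

theorem m3_reg [Finite K] {c : K} (hc : c ^ 3 = 1) : ∃ e : K, M3 (regM c e hc) := by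
  obtain ⟨s, hs⟩ := exists_s (K := K)
  refine ⟨s - 1 - s * c, m3_base hs _ (ZZ s) (ZZ s * regM c _ hc) (tr_ZZ s) (ms_ZZ s) rfl (Or.inl ⟨?_, ?_⟩)⟩
  · change tr3 ((ZZ s).1 * (regM c _ hc).1) = _
    simp [tr3, ZZ, regM, Matrix.mul_apply, Fin.sum_univ_three]
  · change ms3 ((ZZ s).1 * (regM c _ hc).1) = _
    simp [ms3, ZZ, regM, Matrix.mul_apply, Fin.sum_univ_three]
    linear_combination s * hc

/-- `c` times a transvection -/
def traM (c x y : K) (hc : c ^ 3 = 1) : SpecialLinearGroup (Fin 3) K := ⟨!![c, 0, x; 0, c, y; 0, 0, c], by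
  rw [Matrix.det_fin_three]; simp; linear_combination hc⟩

theorem m3_tra [Finite K] {c : K} (hc : c ^ 3 = 1) : ∃ x y : K, x ≠ 0 ∧ M3 (traM c x y hc) := by
  obtain ⟨s, hs⟩ := exists_s (K := K)
  have hs0 : s ≠ 0 := by
    intro h
    apply hs 1
    rw [h]; ring
  by_cases h1 : c = 1
  · subst h1
    refine ⟨s, s, hs0, m3_base hs _ (ZZ s) (ZZ s * traM 1 s s hc) (tr_ZZ s) (ms_ZZ s) rfl (Or.inr ⟨?_, ?_⟩)⟩
    · change tr3 ((ZZ s).1 * (traM _ _ _ hc).1) = _
      simp [tr3, ZZ, traM, Matrix.mul_apply, Fin.sum_univ_three]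
    · change ms3 ((ZZ s).1 * (traM _ _ _ hc).1) = _
      simp [ms3, ZZ, traM, Matrix.mul_apply, Fin.sum_univ_three]
  · -- `c u₁ = c s - c s c`
    refine ⟨c * s - c * s * c, 0, ?_, m3_base hs _ (ZZ s) (ZZ s * traM c (c * s - c * s * c) 0 hc) (tr_ZZ s) (ms_ZZ s)
      rfl (Or.inl ⟨?_, ?_⟩)⟩
    · have hc0 : c ≠ 0 := by
        rintro rfl
        norm_num at hc
      have : c * s - c * s * c = c * s * (1 - c) := by ring
      rw [this]
      exact mul_ne_zero (mul_ne_zero hc0 hs0) (sub_ne_zero.2 fun h => h1 h.symm)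
    · change tr3 ((ZZ s).1 * (traM _ _ _ hc).1) = _
      simp [tr3, ZZ, traM, Matrix.mul_apply, Fin.sum_univ_three]
    · change ms3 ((ZZ s).1 * (traM _ _ _ hc).1) = _
      simp [ms3, ZZ, traM, Matrix.mul_apply, Fin.sum_univ_three]
      linear_combination s * hc

/-! ### similarity -/

/-- similar matrices -/
def Sm (l m : Matrix (Fin 3) (Fin 3) K) : Prop := ∃ P : Matrix (Fin 3) (Fin 3) K, P.det ≠ 0 ∧ l * P = P * m

theorem Sm.symm {l m : Matrix (Fin 3) (Fin 3) K} (h : Sm l m) : Sm m l := by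
  obtain ⟨P, hP, h⟩ := h
  have hu : IsUnit P.det := isUnit_iff_ne_zero.2 hP
  refine ⟨P⁻¹, ?_, ?_⟩
  · intro h0
    have h1 := congrArg Matrix.det (Matrix.mul_nonsing_inv P hu)
    rw [Matrix.det_mul, h0, mul_zero, Matrix.det_one] at h1
    exact zero_ne_one h1
  · calc m * P⁻¹ = P⁻¹ * (P * m) * P⁻¹ := by rw [← mul_assoc, Matrix.nonsing_inv_mul P hu, one_mul]
      _ = P⁻¹ * l * (P * P⁻¹) := by rw [← h]; simp only [mul_assoc]
      _ = P⁻¹ * l := by rw [Matrix.mul_nonsing_inv P hu, mul_one]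

theorem Sm.trans {l m r : Matrix (Fin 3) (Fin 3) K} (h : Sm l m) (h' : Sm m r) : Sm l r := by
  obtain ⟨P, hP, h⟩ := h
  obtain ⟨Q, hQ, h'⟩ := h'
  refine ⟨P * Q, by rw [Matrix.det_mul]; exact mul_ne_zero hP hQ, ?_⟩
  rw [← mul_assoc, h, mul_assoc, h', mul_assoc]

theorem det_cols_ne {a b c : Fin 3 → K} (h : ∀ x y z : K, x • a + y • b + z • c = 0 → x = 0 ∧ y = 0 ∧ z = 0) :
    (Matrix.of ![a, b, c])ᵀ.det ≠ 0 := by
  intro h0
  obtain ⟨w, hw, h1⟩ := Matrix.exists_mulVec_eq_zero_iff.2 h0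
  apply hw
  have h2 : w 0 • a + w 1 • b + w 2 • c = 0 := by
    rw [← h1]
    ext i
    simp [Matrix.mulVec, dotProduct, Fin.sum_univ_three, mul_comm]
  obtain ⟨h3, h4, h5⟩ := h _ _ _ h2
  ext i
  fin_cases i
  · exact h3
  · exact h4
  · exact h5

theorem mul_cols (l : Matrix (Fin 3) (Fin 3) K) (a b c : Fin 3 → K) :
    l * (Matrix.of ![a, b, c])ᵀ = (Matrix.of ![l *ᵥ a, l *ᵥ b, l *ᵥ c])ᵀ := by
  ext i j
  fin_cases j <;> simp [Matrix.mul_apply, Matrix.mulVec, dotProduct, Fin.sum_univ_three]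

theorem cols_mul (a b c : Fin 3 → K) (m : Matrix (Fin 3) (Fin 3) K) :
    (Matrix.of ![a, b, c])ᵀ * m = (Matrix.of ![m 0 0 • a + m 1 0 • b + m 2 0 • c, m 0 1 • a + m 1 1 • b + m 2 1 • c,
      m 0 2 • a + m 1 2 • b + m 2 2 • c])ᵀ := by
  ext i j
  fin_cases j <;> simp [Matrix.mul_apply, Fin.sum_univ_three, mul_comm]

theorem exists_vec_ne {N : Matrix (Fin 3) (Fin 3) K} (h : N ≠ 0) : ∃ v, N *ᵥ v ≠ 0 := by
  by_contra hcon
  push Not at hcon
  apply h
  ext i j
  have := congrFun (hcon (Pi.single j 1)) i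
  simpa using this

/-- the regular case -/
theorem sm_reg {l : Matrix (Fin 3) (Fin 3) K} {c : K} (h3 : (l - c • 1) * ((l - c • 1) * (l - c • 1)) = 0)
    (h2 : (l - c • 1) * (l - c • 1) ≠ 0) : Sm l !![c, 1, 0; 0, c, 1; 0, 0, c] := by
  obtain ⟨v, hv⟩ := exists_vec_ne h2
  set N := l - c • (1 : Matrix (Fin 3) (Fin 3) K) with hN
  rw [← Matrix.mulVec_mulVec] at hv
  have h3' : ∀ u, N *ᵥ (N *ᵥ (N *ᵥ u)) = 0 := by
    intro u
    rw [Matrix.mulVec_mulVec, Matrix.mulVec_mulVec, mul_assoc, h3, Matrix.zero_mulVec]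
  have hl : ∀ u, l *ᵥ u = N *ᵥ u + c • u := by
    intro u
    rw [hN, Matrix.sub_mulVec, Matrix.smul_mulVec, Matrix.one_mulVec, sub_add_cancel]
  refine ⟨(Matrix.of ![N *ᵥ (N *ᵥ v), N *ᵥ v, v])ᵀ, det_cols_ne ?_, ?_⟩
  · intro x y z h
    have e1 : z • (N *ᵥ (N *ᵥ v)) = 0 := by
      have := congrArg (fun u => N *ᵥ (N *ᵥ u)) h
      simp only [Matrix.mulVec_add, Matrix.mulVec_smul, h3', Matrix.mulVec_zero, smul_zero, zero_add] at this
      exact this
    have hz : z = 0 := (smul_eq_zero.1 e1).resolve_right hv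
    have e2 : y • (N *ᵥ (N *ᵥ v)) = 0 := by
      have := congrArg (fun u => N *ᵥ u) h
      simp only [Matrix.mulVec_add, Matrix.mulVec_smul, h3', hz, Matrix.mulVec_zero, smul_zero, zero_add, zero_smul,
        add_zero] at this
      exact this
    have hy : y = 0 := (smul_eq_zero.1 e2).resolve_right hv
    rw [hy, hz, zero_smul, zero_smul, add_zero, add_zero] at h
    exact ⟨(smul_eq_zero.1 h).resolve_right hv, hy, hz⟩
  · rw [mul_cols, cols_mul, hl, hl, hl, h3']
    congr 2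
    simp

/-- the case of a transvection -/
theorem sm_tra {l : Matrix (Fin 3) (Fin 3) K} {c : K} (h2 : (l - c • 1) * (l - c • 1) = 0)
    (h1 : l - c • 1 ≠ 0) {x y : K} (hx : x ≠ 0) : Sm l !![c, 0, x; 0, c, y; 0, 0, c] := by
  obtain ⟨v, hv⟩ := exists_vec_ne h1
  set N := l - c • (1 : Matrix (Fin 3) (Fin 3) K) with hN
  have h2' : ∀ u, N *ᵥ (N *ᵥ u) = 0 := by
    intro u
    rw [Matrix.mulVec_mulVec, h2, Matrix.zero_mulVec]
  have hl : ∀ u, l *ᵥ u = N *ᵥ u + c • u := by
    intro u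
    rw [hN, Matrix.sub_mulVec, Matrix.smul_mulVec, Matrix.one_mulVec, sub_add_cancel]
  set e := N *ᵥ v with he
  obtain ⟨w, hw, hwe⟩ : ∃ w, N *ᵥ w = 0 ∧ w ∉ Submodule.span K {e} := by
    by_contra hcon
    push Not at hcon
    have hk : LinearMap.ker (Matrix.toLin' N) ≤ Submodule.span K {e} := by
      intro w hw
      exact hcon w (by simpa using hw)
    have hr : LinearMap.range (Matrix.toLin' N) ≤ LinearMap.ker (Matrix.toLin' N) := by
      rintro _ ⟨u, rfl⟩
      simpa using h2' u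
    have e1 := Submodule.finrank_mono hk
    have e2 := Submodule.finrank_mono hr
    have e3 := finrank_span_singleton (K := K) hv
    have e4 := LinearMap.finrank_range_add_finrank_ker (Matrix.toLin' N)
    simp only [Module.finrank_fintype_fun_eq_card, Fintype.card_fin] at e4
    omega
  have hind : ∀ a b : K, a • e + b • w = 0 → a = 0 ∧ b = 0 := by
    intro a b h
    have hb : b = 0 := by
      by_contra hb
      apply hwe
      rw [Submodule.mem_span_singleton]
      refine ⟨-(b⁻¹ * a), ?_⟩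
      have : b⁻¹ • (a • e + b • w) = 0 := by rw [h, smul_zero]
      rw [smul_add, smul_smul, smul_smul, inv_mul_cancel₀ hb, one_smul] at this
      rw [neg_smul]
      exact neg_eq_of_add_eq_zero_right this
    rw [hb, zero_smul, add_zero] at h
    exact ⟨(smul_eq_zero.1 h).resolve_right hv, hb⟩
  refine ⟨(Matrix.of ![x⁻¹ • (e - y • w), w, v])ᵀ, det_cols_ne ?_, ?_⟩
  · intro a b d h
    have e1 : d • e = 0 := by
      have := congrArg (fun u => N *ᵥ u) h
      simpa [Matrix.mulVec_add, Matrix.mulVec_sub, Matrix.mulVec_smul, h2', hw, he] using this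
    have hd : d = 0 := (smul_eq_zero.1 e1).resolve_right hv
    rw [hd, zero_smul, add_zero] at h
    have h5 : (a * x⁻¹) • e + (b - a * x⁻¹ * y) • w = 0 := by
      rw [← h]
      module
    obtain ⟨h6, h7⟩ := hind _ _ h5
    have ha : a = 0 := (mul_eq_zero.1 h6).resolve_right (inv_ne_zero hx)
    rw [ha, zero_mul, zero_mul, sub_zero] at h7
    exact ⟨ha, h7, hd⟩
  · rw [mul_cols, cols_mul, hl, hl, hl, hw, Matrix.mulVec_smul, Matrix.mulVec_sub, Matrix.mulVec_smul, h2', hw]
    have e1 : x • (x⁻¹ • (e - y • w)) + y • w = e := by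
      rw [smul_smul, mul_inv_cancel₀ hx, one_smul, sub_add_cancel]
    congr 2
    simp
    rw [e1]

/-- `c` times a unipotent element, not scalar -/
theorem m3_unip [Finite K] (l : SpecialLinearGroup (Fin 3) K) {c : K} (hl : l.1.charpoly = (X - C c) ^ 3)
    (hns : l.1 ≠ c • 1) : M3 l := by
  have h3 : (l.1 - c • 1) ^ 3 = 0 := by
    have := Matrix.aeval_self_charpoly l.1
    rw [hl, map_pow, map_sub, aeval_X, aeval_C] at this
    rwa [Algebra.algebraMap_eq_smul_one] at this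
  have h3' : (l.1 - c • 1) * ((l.1 - c • 1) * (l.1 - c • 1)) = 0 := by
    rw [← h3, pow_succ, pow_two, mul_assoc]
  have hc : c ^ 3 = 1 := by
    have h := congrArg (fun p => p.coeff 0) hl
    have h4 := Matrix.det_eq_sign_charpoly_coeff l.1
    have h5 : ((X - C c) ^ 3 : K[X]).coeff 0 = -c ^ 3 := by
      rw [coeff_zero_eq_eval_zero]
      simp
      ring
    rw [h, h5, l.2, Fintype.card_fin] at h4
    linear_combination -h4
  by_cases h2 : (l.1 - c • 1) * (l.1 - c • 1) = 0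
  · obtain ⟨x, y, hx, hM⟩ := m3_tra hc
    obtain ⟨P, hP, h⟩ := sm_tra (x := x) (y := y) h2 (sub_ne_zero.2 hns) hx
    exact hM.of_sim hP h
  · obtain ⟨e, hM⟩ := m3_reg hc
    have h6 := sm_reg h3' h2
    have h7 : Sm (regM c e hc).1 !![c, 1, 0; 0, c, 1; 0, 0, c] := by
      have hN : (regM c e hc).1 - c • (1 : Matrix (Fin 3) (Fin 3) K) = !![0, c, c * e; 0, 0, -c; 0, 0, 0] := by
        ext i j
        fin_cases i <;> fin_cases j <;> simp [regM]
      apply sm_reg
      · rw [hN]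
        ext i j
        fin_cases i <;> fin_cases j <;> simp [Matrix.mul_apply, Fin.sum_univ_three]
      · rw [hN]
        intro h0
        have h8 := congrFun (congrFun h0 0) 2
        simp [Matrix.mul_apply, Fin.sum_univ_three] at h8
        rw [h8] at hc
        norm_num at hc
    obtain ⟨P, hP, h⟩ := h6.trans h7.symm
    exact hM.of_sim hP h

/-- the identity -/
theorem m3_one [Finite K] : M3 (1 : SpecialLinearGroup (Fin 3) K) := by
  obtain ⟨s, hs⟩ := exists_s (K := K)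
  exact m3_base hs 1 (ZZ s) (ZZ s) (tr_ZZ s) (ms_ZZ s) (mul_one _) (Or.inl ⟨tr_ZZ s, ms_ZZ s⟩)

/-- the irreducible elements -/
theorem m3_irr [Finite K] (l : SpecialLinearGroup (Fin 3) K) (hl : Irreducible l.1.charpoly) : M3 l := by
  classical
  have hF : Fact (Irreducible l.1.charpoly) := ⟨hl⟩
  set p := l.1.charpoly with hp
  have hm : p.Monic := Matrix.charpoly_monic _
  have hd : p.natDegree = 3 := by rw [hp, Matrix.charpoly_natDegree_eq_dim, Fintype.card_fin]
  let pb := AdjoinRoot.powerBasis hm.ne_zero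
  have hfin : Module.Finite K (AdjoinRoot p) := pb.finite
  have hfin2 : Finite (AdjoinRoot p) := Module.finite_of_finite K
  have hr : Module.finrank K (AdjoinRoot p) = 3 := by rw [pb.finrank, AdjoinRoot.powerBasis_dim, hd]
  have hnorm : Algebra.norm K (AdjoinRoot.root p) = 1 := by
    have h1 := Algebra.PowerBasis.norm_gen_eq_coeff_zero_minpoly pb
    rw [AdjoinRoot.powerBasis_gen, AdjoinRoot.minpoly_root hm.ne_zero, hm.leadingCoeff, inv_one, C_1, mul_one,
      AdjoinRoot.powerBasis_dim, hd] at h1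
    rw [h1]
    have h2 := Matrix.det_eq_sign_charpoly_coeff l.1
    rw [l.2, Fintype.card_fin] at h2
    exact h2.symm
  have hpow : (AdjoinRoot.root p) ^ (Nat.card K ^ 2 + Nat.card K + 1) = 1 := by
    have h1 := FiniteField.algebraMap_norm_eq_pow (K := K) (K' := AdjoinRoot p) (x := AdjoinRoot.root p)
    rw [hnorm, map_one] at h1
    have h2 : (Nat.card (AdjoinRoot p) - 1) / (Nat.card K - 1) = Nat.card K ^ 2 + Nat.card K + 1 := by
      rw [Module.natCard_eq_pow_finrank (K := K), hr]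
      have hq : 2 ≤ Nat.card K := Finite.one_lt_card
      apply Nat.div_eq_of_eq_mul_left (by omega)
      obtain ⟨k, hk⟩ : ∃ k, Nat.card K = k + 1 := ⟨Nat.card K - 1, by omega⟩
      rw [hk]
      simp only [Nat.add_sub_cancel]
      have : (k + 1) ^ 3 = ((k + 1) ^ 2 + (k + 1) + 1) * k + 1 := by ring
      omega
    rw [← h2]
    exact h1.symm
  -- the square root
  obtain ⟨k, hk⟩ : ∃ k, 2 * k = Nat.card K ^ 2 + Nat.card K + 1 + 1 := by
    refine ⟨(Nat.card K * (Nat.card K + 1)) / 2 + 1, ?_⟩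
    have h1 := Nat.div_mul_cancel (Nat.even_mul_succ_self (Nat.card K)).two_dvd
    have h2 : Nat.card K * (Nat.card K + 1) = Nat.card K ^ 2 + Nat.card K := by ring
    omega
  have hdiv : p ∣ X ^ (2 * k) - X := by
    rw [← AdjoinRoot.mk_eq_zero, map_sub, map_pow, AdjoinRoot.mk_X, hk, pow_succ, hpow, one_mul, sub_self]
  have hl2 : l.1 ^ (2 * k) = l.1 := by
    obtain ⟨r, hr⟩ := hdiv
    have h1 := congrArg (fun f => aeval l.1 f) hr
    simp only [map_sub, map_pow, aeval_X, map_mul] at h1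
    rw [hp, Matrix.aeval_self_charpoly, zero_mul, sub_eq_zero] at h1
    exact h1
  set s := l ^ k with hs
  have hss : s * s = l := by
    rw [hs, ← pow_add, ← two_mul]
    exact Subtype.ext hl2
  have hirr : Irreducible s.1.charpoly := by
    apply irr3 _ s.2
    intro x hx
    have h1 : s.1.charpoly.eval x = 0 := by
      rw [charpoly3, s.2]
      simpa using hx
    have h2 : l.1.charpoly.eval (x ^ 2) = 0 := by
      rw [Matrix.eval_charpoly] at h1 ⊢
      have h3 : Matrix.scalar (Fin 3) (x ^ 2) - l.1 = (Matrix.scalar (Fin 3) x - s.1) * (Matrix.scalar (Fin 3) x + s.1) := by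
        have h4 : l.1 = s.1 * s.1 := by rw [← hss]; rfl
        have h5 : Matrix.scalar (Fin 3) x * s.1 = s.1 * Matrix.scalar (Fin 3) x :=
          (Matrix.scalar_commute x (fun _ => mul_comm _ _) s.1).eq
        rw [h4, sub_mul, mul_add, mul_add, h5, ← map_mul, pow_two x]
        abel
      rw [h3, Matrix.det_mul, h1, zero_mul]
    have h3 := Polynomial.degree_eq_one_of_irreducible_of_root hl h2
    rw [degree_eq_natDegree hm.ne_zero, hd] at h3
    norm_num at h3
  exact ⟨s, s, hss.symm, hirr, hirr, Or.inl rfl⟩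

/-- a simple eigenvalue -/
theorem m3_simple [Finite K] (hq : 4 ≤ Nat.card K) (l : SpecialLinearGroup (Fin 3) K) {x : K} {p : K[X]}
    (hp : l.1.charpoly = (X - C x) * p) (hx : p.eval x ≠ 0) : M3 l := by
  obtain ⟨s, hs⟩ := exists_s (K := K)
  have hs' : ∀ k : K, k ^ 3 - tr3 (ZZ s).1 * k ^ 2 + ms3 (ZZ s).1 * k - 1 ≠ 0 := by
    intro k h
    rw [tr_ZZ, ms_ZZ] at h
    apply hs k
    linear_combination h
  have hirr := irr3 _ (ZZ s).2 hs'
  obtain ⟨Z, h, hZ, hh, hPZ⟩ := Cfsg.Agent.H864.Ore.gl_comm hq l.1 l.2 x p hp hx _ hirr (Matrix.charpoly_monic _)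
    (by rw [Matrix.charpoly_natDegree_eq_dim]) (by simp)
  have hZd : Z.det = 1 := by
    rw [Matrix.det_eq_sign_charpoly_coeff, hZ, ← Matrix.det_eq_sign_charpoly_coeff]
    exact (ZZ s).2
  set Z' : SpecialLinearGroup (Fin 3) K := ⟨Z, hZd⟩ with hZ'
  set h' : SpecialLinearGroup (Fin 3) K := ⟨h, hh⟩ with hh'
  have e1 : l * Z' * h' = h' * Z' := Subtype.ext hPZ
  have e2 : l = (h' * Z' * h'⁻¹) * Z'⁻¹ := by
    rw [← e1]; group
  have hu : IsUnit h.det := by rw [hh]; exact isUnit_one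
  have e3 : ∀ Y : SpecialLinearGroup (Fin 3) K, (h' * Y * h'⁻¹).1.charpoly = Y.1.charpoly := by
    intro Y
    have hc := charpoly_cj (h.nonsingInvUnit hu) Y
    have e4 : cjG (h.nonsingInvUnit hu) Y = h' * Y * h'⁻¹ := by
      rw [eq_mul_inv_iff_mul_eq]
      apply Subtype.ext
      change (cjG (h.nonsingInvUnit hu) Y).1 * h = h * Y.1
      rw [cjG_coe, mul_assoc]
      have e5 : (((h.nonsingInvUnit hu)⁻¹ : GL (Fin 3) K) : Matrix (Fin 3) (Fin 3) K) * h = 1 := by
        have h6 : (((h.nonsingInvUnit hu)⁻¹ : GL (Fin 3) K) : Matrix (Fin 3) (Fin 3) K) *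
            ((h.nonsingInvUnit hu : GL (Fin 3) K) : Matrix (Fin 3) (Fin 3) K) = 1 := by
          rw [← Units.val_mul, inv_mul_cancel, Units.val_one]
        exact h6
      rw [e5, mul_one]
      rfl
    rw [← e4]
    exact hc
  have hZi : Irreducible Z.charpoly := by rw [hZ]; exact hirr
  have hinv : Irreducible (Z'⁻¹).1.charpoly := by
    apply irr3 _ (Z'⁻¹).2
    intro k hk
    have h1 : (Z'⁻¹).1.charpoly.eval k = 0 := by
      rw [charpoly3, (Z'⁻¹).2]
      simpa using hk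
    have hk0 : k ≠ 0 := by
      rintro rfl
      norm_num at hk
    have h2 : Z'.1.charpoly.eval k⁻¹ = 0 := by
      rw [Matrix.eval_charpoly] at h1 ⊢
      have h3 : Matrix.scalar (Fin 3) k⁻¹ - Z'.1 =
          -(k⁻¹ • Z'.1) * (Matrix.scalar (Fin 3) k - (Z'⁻¹).1) := by
        have h5 : Z'.1 * (Z'⁻¹).1 = 1 := by
          have := congrArg Subtype.val (mul_inv_cancel Z')
          exact this
        rw [mul_sub, neg_mul, neg_mul, Matrix.smul_mul, Matrix.smul_mul, h5]
        ext i j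
        fin_cases i <;> fin_cases j <;> simp [Matrix.scalar_apply, Matrix.mul_apply, Fin.sum_univ_three] <;>
          field_simp <;> ring
      rw [h3, Matrix.det_mul, h1, mul_zero]
    have h3 := Polynomial.degree_eq_one_of_irreducible_of_root hZi h2
    rw [degree_eq_natDegree (Matrix.charpoly_monic _).ne_zero, Matrix.charpoly_natDegree_eq_dim] at h3
    norm_num at h3
  refine ⟨h' * Z' * h'⁻¹, Z'⁻¹, e2, ?_, hinv, Or.inr ?_⟩
  · rw [e3]; exact hZi
  · rw [show (h' * Z' * h'⁻¹)⁻¹ = h' * Z'⁻¹ * h'⁻¹ by group, e3]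

/-- **M3**: for `4 ≤ |K|` the identity and every non-scalar element of `SL_3(K)` is a product of two irreducible
elements of equal or inverse types. -/
theorem m3_big [Finite K] (hq : 4 ≤ Nat.card K) (l : SpecialLinearGroup (Fin 3) K)
    (hl : l = 1 ∨ ∀ c : K, l.1 ≠ c • 1) : M3 l := by
  rcases hl with rfl | hl
  · exact m3_one
  by_cases hirr : Irreducible l.1.charpoly
  · exact m3_irr l hirr
  have hm : l.1.charpoly.Monic := Matrix.charpoly_monic _
  have hd : l.1.charpoly.natDegree = 3 := by rw [Matrix.charpoly_natDegree_eq_dim, Fintype.card_fin]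
  obtain ⟨x, hx⟩ : ∃ x, l.1.charpoly.IsRoot x := by
    rw [hm.irreducible_iff_roots_eq_zero_of_degree_le_three (by omega) (by omega)] at hirr
    obtain ⟨x, hx⟩ := Multiset.exists_mem_of_ne_zero hirr
    exact ⟨x, (mem_roots'.1 hx).2⟩
  obtain ⟨p, hp⟩ := dvd_iff_isRoot.2 hx
  by_cases hpx : p.eval x = 0
  · obtain ⟨r, hr⟩ := dvd_iff_isRoot.2 (show p.IsRoot x from hpx)
    have hpm : p.Monic := (monic_X_sub_C x).of_mul_monic_left (hp ▸ hm)
    have hrm : r.Monic := (monic_X_sub_C x).of_mul_monic_left (hr ▸ hpm)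
    have hrd : r.natDegree = 1 := by
      have h1 := congrArg natDegree hp
      rw [(monic_X_sub_C x).natDegree_mul hpm, hr, (monic_X_sub_C x).natDegree_mul hrm, natDegree_X_sub_C, hd] at h1
      omega
    obtain ⟨y, hy⟩ : ∃ y, r = X - C y := by
      refine ⟨-r.coeff 0, ?_⟩
      rw [C_neg, sub_neg_eq_add]
      exact hrm.eq_X_add_C hrd
    by_cases hxy : y = x
    · refine m3_unip l (c := x) ?_ (hl x)
      rw [hp, hr, hy, hxy]
      ring
    · refine m3_simple hq l (x := y) (p := (X - C x) * (X - C x)) ?_ ?_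
      · rw [hp, hr, hy]; ring
      · simp only [eval_mul, eval_sub, eval_X, eval_C]
        exact mul_ne_zero (sub_ne_zero.2 hxy) (sub_ne_zero.2 hxy)
  · exact m3_simple hq l hp hpx

open Cfsg.Agent.H162.GaussSL in
/-- **M3 for the big cell**, `4 ≤ |K|` (the shape of `H374.Ore.Sl3.m3`). -/
theorem m3_cell [Finite K] (hq : 4 ≤ Nat.card K) {L U : SpecialLinearGroup (Fin 3) K} (hL : L ∈ LT 3 K)
    (hU : U ∈ UT 3 K) : ∃ A B : SpecialLinearGroup (Fin 3) K, L * U = A * B ∧ Irreducible A.1.charpoly ∧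
      Irreducible B.1.charpoly ∧ (B.1.charpoly = A.1.charpoly ∨ B.1.charpoly = (A⁻¹).1.charpoly) := by
  refine m3_big hq (L * U) ?_
  by_cases h1 : L * U = 1
  · exact Or.inl h1
  right
  intro c hc
  apply h1
  have hm := mul_LU hL hU
  rw [hc] at hm
  have h00 := congrFun (congrFun hm 0) 0
  simp at h00
  apply Subtype.ext
  change (L * U).1 = 1
  rw [hc, h00, one_smul]

end Cfsg.Agent.H143.Fact
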