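import Cfsg.Agent.H953.Rcf

/-!
# Factorisation tables for matrices over a prime field: arithmetic of digit lists (helper143)

* `vec b l` : the vector with coordinates `l` (natural numbers) in `b 0, b 1, …`;
* `addm`, `mulV`, `evF` : kernel computations modulo `q`, and their meaning;
* `Adapted T b L` : `T` acts on `b 0, b 1, …` by companion blocks with coefficient lists `L`.
-/

set_option autoImplicit false

namespace Cfsg.Agent.H143.Fact

open Polynomial

section Vec

variable {V : Type*} [AddCommGroup V]

/-- the vector with coordinates `l` -/
def vec (b : ℕ → V) : List ℕ → V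
  | [] => 0
  | a :: l => a • b 0 + vec (fun k => b (k + 1)) l

/-- `c u + v` modulo `q` -/
def addm (q c : ℕ) : List ℕ → List ℕ → List ℕ
  | [], v => v
  | u :: us, [] => (c * u % q) :: addm q c us []
  | u :: us, v :: vs => ((c * u + v) % q) :: addm q c us vs

theorem nsmul_mod {q : ℕ} (hq : ∀ v : V, q • v = 0) (m : ℕ) (v : V) : (m % q) • v = m • v := by
  conv_rhs => rw [← Nat.mod_add_div m q]
  rw [add_smul, mul_smul, hq, add_zero]

theorem vec_addm {q : ℕ} (hq : ∀ v : V, q • v = 0) (c : ℕ) (u : List ℕ) :
    ∀ (v : List ℕ) (b : ℕ → V), vec b (addm q c u v) = c • vec b u + vec b v := by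
  induction u with
  | nil => intro v b; simp [addm, vec]
  | cons x us ih =>
    intro v b
    cases v with
    | nil =>
      simp only [addm, vec, ih, nsmul_mod hq, smul_add, mul_smul, add_zero]
    | cons y vs =>
      simp only [addm, vec, ih, nsmul_mod hq, smul_add, mul_smul, add_smul]
      abel

theorem length_addm (q c : ℕ) (u : List ℕ) : ∀ v : List ℕ, ∀ n, u.length ≤ n → v.length ≤ n →
    (addm q c u v).length ≤ n := by
  induction u with
  | nil => intro v n _ hv; simpa [addm] using hv
  | cons x us ih =>
    intro v n hu hv
    cases v with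
    | nil =>
      have := ih [] (n - 1) (by simp at hu; omega) (by simp)
      simp only [List.length_cons] at hu
      simp only [addm, List.length_cons]
      omega
    | cons y vs =>
      simp only [List.length_cons] at hu hv
      have := ih vs (n - 1) (by omega) (by omega)
      simp only [addm, List.length_cons]
      omega

/-- matrix (list of columns) times vector -/
def mulV (q : ℕ) : List (List ℕ) → List ℕ → List ℕ
  | [], _ => []
  | _ :: _, [] => []
  | c :: cs, a :: as => addm q a c (mulV q cs as)

theorem vec_mulV {q : ℕ} (hq : ∀ v : V, q • v = 0) (T : V →+ V) (b : ℕ → V) (cols : List (List ℕ)) :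
    ∀ (v : List ℕ) (b' : ℕ → V), (∀ k (hk : k < cols.length), T (b' k) = vec b cols[k]) →
      v.length ≤ cols.length → vec b (mulV q cols v) = T (vec b' v) := by
  induction cols with
  | nil =>
    intro v b' _ hv
    have : v = [] := by simpa using hv
    subst this
    simp [mulV, vec]
  | cons c cs ih =>
    intro v b' h hv
    cases v with
    | nil => simp [mulV, vec]
    | cons a as =>
      have h0 := h 0 (by simp)
      simp only [List.getElem_cons_zero] at h0
      have h1 := ih as (fun k => b' (k + 1)) (fun k hk => by
        have := h (k + 1) (by simpa using hk)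
        simpa using this) (by simpa using hv)
      simp only [mulV, vec, vec_addm hq, h1, map_add, map_nsmul, h0]

theorem length_mulV (q n : ℕ) (cols : List (List ℕ)) (h : ∀ c ∈ cols, c.length ≤ n) :
    ∀ v, (mulV q cols v).length ≤ n := by
  induction cols with
  | nil => intro v; simp [mulV]
  | cons c cs ih =>
    intro v
    cases v with
    | nil => simp [mulV]
    | cons a as =>
      simp only [mulV]
      exact length_addm _ _ _ _ _ (h c (by simp)) (ih (fun x hx => h x (by simp [hx])) as)

/-- all entries are zero -/
def allZ (l : List ℕ) : Bool := l.all fun a => Nat.beq a 0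

theorem vec_allZ (l : List ℕ) : ∀ b : ℕ → V, allZ l = true → vec b l = 0 := by
  induction l with
  | nil => intro b _; rfl
  | cons a l ih =>
    intro b h
    simp only [allZ, List.all_cons, Bool.and_eq_true] at h
    have ha : a = 0 := Nat.eq_of_beq_eq_true h.1
    simp only [vec, ha, zero_smul, zero_add]
    exact ih _ h.2

theorem vec_zeros (n : ℕ) (l : List ℕ) : ∀ b : ℕ → V,
    vec b (List.replicate n 0 ++ l) = vec (fun k => b (n + k)) l := by
  induction n with
  | zero => intro b; simp
  | succ n ih =>
    intro b
    rw [List.replicate_succ, List.cons_append, vec, ih, zero_smul, zero_add]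
    congr 1
    funext k
    congr 1
    omega

theorem vec_congr (l : List ℕ) : ∀ b b' : ℕ → V, (∀ k < l.length, b k = b' k) → vec b l = vec b' l := by
  induction l with
  | nil => intro b b' _; rfl
  | cons a l ih =>
    intro b b' h
    simp only [vec]
    rw [h 0 (by simp), ih (fun k => b (k + 1)) (fun k => b' (k + 1)) fun k hk => h (k + 1) (by simpa using hk)]

theorem vec_eq_sum (l : List ℕ) : ∀ b : ℕ → V, vec b l = ∑ k ∈ Finset.range l.length, l.getD k 0 • b k := by
  induction l with
  | nil => intro b; simp [vec]
  | cons a l ih =>
    intro b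
    rw [vec, ih, List.length_cons, Finset.sum_range_succ']
    simp only [List.getD_cons_succ, List.getD_cons_zero]
    rw [add_comm]

end Vec

section Ev

variable {K : Type*} [Field K] {V : Type*} [AddCommGroup V] [Module K V]

/-- the polynomial with coefficients `l` -/
noncomputable def pol (K : Type*) [Field K] : List ℕ → K[X]
  | [] => 0
  | a :: f => C (a : K) + X * pol K f

/-- evaluation of a polynomial at an operator given on lists -/
def evF (q : ℕ) (T : List ℕ → List ℕ) : List ℕ → List ℕ → List ℕ
  | [], _ => []
  | a :: f, v => addm q a v (evF q T f (T v))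

theorem vec_evF {q n : ℕ} (hq : ∀ v : V, q • v = 0) (T : Module.End K V) (b : ℕ → V) (Tl : List ℕ → List ℕ)
    (hT : ∀ v, v.length ≤ n → (Tl v).length ≤ n ∧ vec b (Tl v) = T (vec b v)) (f : List ℕ) :
    ∀ v : List ℕ, v.length ≤ n → vec b (evF q Tl f v) = aeval T (pol K f) (vec b v) := by
  induction f with
  | nil => intro v _; simp [evF, vec, pol]
  | cons a f ih =>
    intro v hv
    obtain ⟨h1, h2⟩ := hT v hv
    rw [evF, vec_addm hq, ih _ h1, h2, pol, map_add, aeval_C, show (X : K[X]) * pol K f = pol K f * X from mul_comm _ _,
      map_mul, aeval_X, LinearMap.add_apply, Module.End.mul_apply, Module.algebraMap_end_apply,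
      Nat.cast_smul_eq_nsmul]

end Ev

section Adapted

variable {V : Type*} [AddCommGroup V]

/-- `T` acts on `b 0, b 1, …` by companion blocks with (lower) coefficient lists `L` -/
def Adapted (T : V →+ V) : (ℕ → V) → List (List ℕ) → Prop
  | _, [] => True
  | b, f :: L => (∀ j, j + 1 < f.length → T (b j) = b (j + 1)) ∧ T (b (f.length - 1)) + vec b f = 0 ∧
      f ≠ [] ∧ Adapted T (fun k => b (f.length + k)) L

/-- the columns of the block matrix -/
def col (q : ℕ) : List (List ℕ) → ℕ → List ℕ
  | [], _ => []
  | f :: L, k => if Nat.blt (k + 1) f.length then List.replicate (k + 1) 0 ++ [1]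
      else if Nat.blt k f.length then addm q (q - 1) f []
      else List.replicate f.length 0 ++ col q L (k - f.length)

theorem adapted_col {q : ℕ} (hq0 : 0 < q) (hq : ∀ v : V, q • v = 0) (T : V →+ V) (L : List (List ℕ)) :
    ∀ (b : ℕ → V), Adapted T b L → ∀ k, k < (L.map List.length).sum → T (b k) = vec b (col q L k) := by
  induction L with
  | nil => intro b _ k hk; simp at hk
  | cons f L ih =>
    intro b h k hk
    obtain ⟨h1, h2, h3, h4⟩ := h
    have hf : 0 < f.length := List.length_pos_of_ne_nil h3
    rw [col]
    by_cases hk1 : k + 1 < f.length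
    · rw [if_pos (by rw [Nat.blt_eq]; exact hk1), h1 k hk1, vec_zeros]
      simp [vec]
    · rw [if_neg (by rw [Nat.blt_eq]; exact hk1)]
      by_cases hk2 : k < f.length
      · rw [if_pos (by rw [Nat.blt_eq]; exact hk2), vec_addm hq]
        have hk3 : k = f.length - 1 := by omega
        subst hk3
        rw [eq_neg_of_add_eq_zero_left h2]
        simp only [vec, add_zero]
        have h5 : q • vec b f = 0 := hq _
        have h6 : q = (q - 1) + 1 := by omega
        rw [h6, add_smul, one_smul] at h5
        exact (eq_neg_of_add_eq_zero_left h5).symm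
      · rw [if_neg (by rw [Nat.blt_eq]; exact hk2), vec_zeros, ← ih _ h4 (k - f.length) (by
          simp only [List.map_cons, List.sum_cons] at hk; omega)]
        congr 2
        omega

theorem length_col (q : ℕ) (L : List (List ℕ)) : ∀ k, (col q L k).length ≤ (L.map List.length).sum := by
  induction L with
  | nil => intro k; simp [col]
  | cons f L ih =>
    intro k
    rw [col, List.map_cons, List.sum_cons]
    split_ifs with h1 h2
    · rw [Nat.blt_eq] at h1
      simp; omega
    · have := length_addm q (q - 1) f [] f.length le_rfl (by simp)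
      omega
    · have := ih (k - f.length)
      simp; omega

end Adapted

end Cfsg.Agent.H143.Fact
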