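import Cfsg.Agent.H143.Fact.Base

/-!
# Factorisation tables: every operator over a prime field has one of finitely many companion forms (helper143)

* `blocks q n`, `allT B n` : enumeration of the sorted lists of companion blocks;
* `exists_form` : every invertible operator has an adapted basis with block list in `allT (blocks q n) n`.
-/

set_option autoImplicit false

namespace Cfsg.Agent.H143.Fact

open Polynomial Module

section Enum

/-- digit lists of length `d` -/
def digs (q : ℕ) : ℕ → List (List ℕ)
  | 0 => [[]]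
  | d + 1 => (List.range q).flatMap fun a => (digs q d).map (a :: ·)

theorem mem_digs {q : ℕ} {d : ℕ} {l : List ℕ} : l ∈ digs q d ↔ l.length = d ∧ ∀ a ∈ l, a < q := by
  induction d generalizing l with
  | zero =>
    simp only [digs, List.mem_singleton, List.length_eq_zero_iff]
    constructor
    · rintro rfl; simp
    · exact fun h => h.1
  | succ d ih =>
    simp only [digs, List.mem_flatMap, List.mem_range, List.mem_map]
    constructor
    · rintro ⟨a, ha, l', hl', rfl⟩
      obtain ⟨h1, h2⟩ := ih.1 hl'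
      refine ⟨by simp [h1], fun x hx => ?_⟩
      rcases List.mem_cons.1 hx with rfl | hx
      · exact ha
      · exact h2 x hx
    · rintro ⟨h1, h2⟩
      cases l with
      | nil => simp at h1
      | cons a l =>
        exact ⟨a, h2 a (by simp), l, ih.2 ⟨by simpa using h1, fun x hx => h2 x (by simp [hx])⟩, rfl⟩

theorem nodup_digs (q d : ℕ) : (digs q d).Nodup := by
  induction d with
  | zero => simp [digs]
  | succ d ih =>
    rw [digs, List.nodup_flatMap]
    refine ⟨fun a _ => ih.map fun x y h => (List.cons.inj h).2, ?_⟩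
    refine List.nodup_range.imp ?_
    intro a b hab
    rw [Function.onFun, List.disjoint_left]
    intro x hx hx'
    obtain ⟨y, _, rfl⟩ := List.mem_map.1 hx
    obtain ⟨z, _, hz⟩ := List.mem_map.1 hx'
    exact hab (List.cons.inj hz).1.symm

/-- the blocks: lower coefficient lists with nonzero constant term -/
def blocks (q n : ℕ) : List (List ℕ) :=
  (List.range n).reverse.flatMap fun d => (digs q (d + 1)).filter fun l => !Nat.beq (l.headD 0) 0

theorem mem_blocks {q n : ℕ} {l : List ℕ} :
    l ∈ blocks q n ↔ 0 < l.length ∧ l.length ≤ n ∧ (∀ a ∈ l, a < q) ∧ l.headD 0 ≠ 0 := by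
  have hb : ∀ l : List ℕ, (!Nat.beq (l.headD 0) 0) = true ↔ l.headD 0 ≠ 0 := by
    intro l
    rw [Bool.not_eq_true', Bool.eq_false_iff, ne_eq, ne_eq, Nat.beq_eq]
  simp only [blocks, List.mem_flatMap, List.mem_reverse, List.mem_range, List.mem_filter, mem_digs, hb]
  constructor
  · rintro ⟨d, hd, ⟨h1, h2⟩, h3⟩
    exact ⟨by omega, by omega, h2, h3⟩
  · rintro ⟨h1, h2, h3, h4⟩
    exact ⟨l.length - 1, by omega, ⟨by omega, h3⟩, h4⟩

theorem nodup_blocks (q n : ℕ) : (blocks q n).Nodup := by
  rw [blocks, List.nodup_flatMap]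
  refine ⟨fun d _ => (nodup_digs q _).filter _, ?_⟩
  refine (List.nodup_reverse.2 List.nodup_range).imp ?_
  intro a b hab
  rw [Function.onFun, List.disjoint_left]
  intro x hx hx'
  have h1 := (mem_digs.1 (List.mem_filter.1 hx).1).1
  have h2 := (mem_digs.1 (List.mem_filter.1 hx').1).1
  omega

/-- all sorted lists of blocks of total length `n` -/
def allT : List (List ℕ) → ℕ → List (List (List ℕ))
  | _, 0 => [[]]
  | [], _ + 1 => []
  | f :: B, n + 1 => if Nat.blt (n + 1) f.length then allT B (n + 1) else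
      (List.range ((n + 1) / f.length + 1)).flatMap fun k =>
        (allT B (n + 1 - k * f.length)).map (List.replicate k f ++ ·)

/-- total length -/
def tot (L : List (List ℕ)) : ℕ := (L.map List.length).sum

theorem tot_append (L M : List (List ℕ)) : tot (L ++ M) = tot L + tot M := by simp [tot]

theorem tot_replicate (k : ℕ) (f : List ℕ) : tot (List.replicate k f) = k * f.length := by simp [tot]

theorem mem_allT (B : List (List ℕ)) (hB : ∀ f ∈ B, 0 < f.length) (c : List ℕ → ℕ) :
    ∀ n, tot (B.flatMap fun f => List.replicate (c f) f) = n →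
      (B.flatMap fun f => List.replicate (c f) f) ∈ allT B n := by
  induction B with
  | nil =>
    intro n hn
    have : n = 0 := by simpa [tot] using hn.symm
    subst this
    simp [allT]
  | cons f B ih =>
    intro n hn
    have hf : 0 < f.length := hB f (by simp)
    have hB' : ∀ g ∈ B, 0 < g.length := fun g hg => hB g (by simp [hg])
    rw [List.flatMap_cons, tot_append, tot_replicate] at hn
    cases n with
    | zero =>
      have h0 : ((f :: B).flatMap fun f => List.replicate (c f) f) = [] := by
        rw [List.eq_nil_iff_forall_not_mem]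
        intro x hx
        obtain ⟨g, hg, hx⟩ := List.mem_flatMap.1 hx
        obtain ⟨hc, rfl⟩ := List.mem_replicate.1 hx
        have h1 : x.length ≤ tot ((f :: B).flatMap fun f => List.replicate (c f) f) := by
          apply List.single_le_sum (by simp)
          refine List.mem_map.2 ⟨x, List.mem_flatMap.2 ⟨x, hg, List.mem_replicate.2 ⟨hc, rfl⟩⟩, rfl⟩
        rw [List.flatMap_cons, tot_append, tot_replicate, hn] at h1
        have := hB x hg
        omega
      rw [h0]
      simp [allT]
    | succ n =>
      rw [allT, List.flatMap_cons]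
      by_cases hlt : n + 1 < f.length
      · rw [if_pos (by rw [Nat.blt_eq]; exact hlt)]
        have hc : c f = 0 := by
          by_contra hc
          have : f.length ≤ c f * f.length := Nat.le_mul_of_pos_left _ (Nat.pos_of_ne_zero hc)
          omega
        rw [hc, List.replicate_zero, List.nil_append]
        exact ih hB' _ (by rw [hc] at hn; omega)
      · rw [if_neg (by rw [Nat.blt_eq]; exact hlt)]
        refine List.mem_flatMap.2 ⟨c f, ?_, List.mem_map.2 ⟨_, ih hB' _ ?_, rfl⟩⟩
        · rw [List.mem_range, Nat.lt_succ_iff, Nat.le_div_iff_mul_le hf]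
          omega
        · omega

theorem count_flatMap (B : List (List ℕ)) (hB : B.Nodup) (c : List ℕ → ℕ) (a : List ℕ) :
    (B.flatMap fun f => List.replicate (c f) f).count a = if a ∈ B then c a else 0 := by
  induction B with
  | nil => simp
  | cons f B ih =>
    rw [List.flatMap_cons, List.count_append, ih (List.nodup_cons.1 hB).2, List.count_replicate]
    by_cases h : f = a
    · subst h
      simp [(List.nodup_cons.1 hB).1]
    · have h' : ¬ a = f := fun e => h e.symm
      simp [h, h']

/-- every list of blocks is a permutation of a member of `allT` -/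
theorem exists_perm {B : List (List ℕ)} (hB : B.Nodup) (hB0 : ∀ f ∈ B, 0 < f.length) {L : List (List ℕ)}
    (hL : ∀ f ∈ L, f ∈ B) : ∃ L' ∈ allT B (tot L), L'.Perm L := by
  have hp : (B.flatMap fun f => List.replicate (L.count f) f).Perm L := by
    rw [List.perm_iff_count]
    intro a
    rw [count_flatMap B hB]
    split_ifs with h
    · rfl
    · exact (List.count_eq_zero.2 fun ha => h (hL a ha)).symm
  refine ⟨_, mem_allT B hB0 _ _ ?_, hp⟩
  exact (hp.map _).sum_eq

theorem perm_map_lift {α β : Type*} (f : α → β) {l' : List β} {l : List α} (h : l'.Perm (l.map f)) :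
    ∃ l'' : List α, l''.Perm l ∧ l''.map f = l' := by
  generalize hm : l.map f = m at h
  induction h generalizing l with
  | nil =>
    rw [List.map_eq_nil_iff] at hm
    subst hm
    exact ⟨[], List.Perm.refl _, rfl⟩
  | cons x h ih =>
    obtain ⟨a, t, rfl, rfl, ht⟩ := List.map_eq_cons_iff.1 hm
    obtain ⟨l'', h1, h2⟩ := ih ht
    exact ⟨a :: l'', h1.cons a, by simp [h2]⟩
  | swap x y l1 =>
    obtain ⟨a, t, rfl, rfl, ht⟩ := List.map_eq_cons_iff.1 hm
    obtain ⟨b, s, rfl, rfl, hs⟩ := List.map_eq_cons_iff.1 ht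
    exact ⟨b :: a :: s, List.Perm.swap _ _ _, by simp [hs]⟩
  | trans h1 h2 ih1 ih2 =>
    obtain ⟨l2, h3, h4⟩ := ih2 hm
    obtain ⟨l3, h5, h6⟩ := ih1 h4
    exact ⟨l3, h5.trans h3, h6⟩

end Enum

section Field

variable {K : Type*} [Field K] {q : ℕ} [hqp : Fact q.Prime]

theorem cast_q (hK : Nat.card K = q) : (q : K) = 0 := by
  have h := card_nsmul_eq_zero' (x := (1 : K))
  rwa [hK, nsmul_eq_mul, mul_one] at h

theorem nsmul_q (hK : Nat.card K = q) {V : Type*} [AddCommGroup V] [Module K V] (v : V) : q • v = 0 := by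
  rw [← Nat.cast_smul_eq_nsmul K, cast_q hK, zero_smul]

theorem exists_rep (hK : Nat.card K = q) (a : K) : ∃ k < q, (k : K) = a := by
  have h := mem_multiples_of_prime_card (p := q) hK (g := (1 : K)) (g' := a) one_ne_zero
  obtain ⟨k, hk⟩ := h
  refine ⟨k % q, Nat.mod_lt _ hqp.out.pos, ?_⟩
  have h1 : k • (1 : K) = a := hk
  rw [← h1, ← nsmul_mod (fun v : K => nsmul_q hK v) k, nsmul_eq_mul, mul_one]

theorem cast_inj_of_lt (hK : Nat.card K = q) {a b : ℕ} (ha : a < q) (hb : b < q) (h : (a : K) = b) : a = b := by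
  classical
  have hfin : Finite K := Nat.finite_of_card_ne_zero (by rw [hK]; exact hqp.out.ne_zero)
  have : Fintype K := Fintype.ofFinite K
  have hbij : Function.Bijective (fun k : Fin q => ((k : ℕ) : K)) := by
    rw [Fintype.bijective_iff_surjective_and_card]
    refine ⟨fun x => ?_, ?_⟩
    · obtain ⟨k, hk, h⟩ := exists_rep hK x
      exact ⟨⟨k, hk⟩, h⟩
    · rw [Fintype.card_fin, ← hK, Nat.card_eq_fintype_card]
  exact congrArg Fin.val (hbij.1 (a₁ := ⟨a, ha⟩) (a₂ := ⟨b, hb⟩) h)

/-- the determinant of the block matrix -/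
def dt (q : ℕ) : List (List ℕ) → ℕ
  | [] => 1
  | f :: L => (if Nat.beq (f.length % 2) 1 then q - f.headD 0 else f.headD 0) * dt q L % q

theorem natCast_mod (hK : Nat.card K = q) (a : ℕ) : ((a % q : ℕ) : K) = a := by
  have := nsmul_mod (fun v : K => nsmul_q hK v) a (1 : K)
  simpa [nsmul_eq_mul] using this

theorem cast_dt (hK : Nat.card K = q) (L : List (List ℕ)) (hL : ∀ f ∈ L, f.headD 0 ≤ q) :
    (dt q L : K) = (L.map fun f => (-1 : K) ^ f.length * (f.headD 0 : ℕ)).prod := by
  induction L with
  | nil => simp [dt]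
  | cons f L ih =>
    rw [dt, natCast_mod hK, Nat.cast_mul, ih (fun g hg => hL g (by simp [hg])), List.map_cons, List.prod_cons]
    congr 1
    by_cases h : f.length % 2 = 1
    · rw [if_pos (by rw [Nat.beq_eq]; exact h), Nat.cast_sub (hL f (by simp)), cast_q hK,
        Odd.neg_one_pow (Nat.odd_iff.2 h)]
      ring
    · rw [if_neg (by rw [Nat.beq_eq]; exact h), Even.neg_one_pow (Nat.even_iff.2 (by omega)), one_mul]

end Field

section Form

variable {V : Type*} [AddCommGroup V]

/-- enumeration of a family indexed by blocks -/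
def seq {d : ℕ} {m : Fin d → ℕ} (b0 : (Σ i : Fin d, Fin (m i)) → V) : List (Fin d) → ℕ → V
  | [], _ => 0
  | i :: is, k => if h : k < m i then b0 ⟨i, ⟨k, h⟩⟩ else seq b0 is (k - m i)

theorem seq_surj {d : ℕ} {m : Fin d → ℕ} (b0 : (Σ i : Fin d, Fin (m i)) → V) (is : List (Fin d)) :
    ∀ i ∈ is, ∀ j : Fin (m i), ∃ k < (is.map m).sum, seq b0 is k = b0 ⟨i, j⟩ := by
  induction is with
  | nil => intro i hi; simp at hi
  | cons i0 is ih =>
    intro i hi j
    rcases List.mem_cons.1 hi with rfl | hi
    · exact ⟨j, by simp only [List.map_cons, List.sum_cons]; omega, by rw [seq, dif_pos j.2]⟩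
    · obtain ⟨k, hk, h⟩ := ih i hi j
      refine ⟨m i0 + k, by simp only [List.map_cons, List.sum_cons]; omega, ?_⟩
      rw [seq, dif_neg (by omega), Nat.add_sub_cancel_left, h]

variable {K : Type*} [Field K] [Module K V] {q : ℕ} [hqp : Fact q.Prime]

theorem adapted_seq (T : V →+ V) {d : ℕ} {m : Fin d → ℕ} (hm : ∀ i, 0 < m i)
    (b0 : (Σ i : Fin d, Fin (m i)) → V) (cf : Fin d → List ℕ) (hlen : ∀ i, (cf i).length = m i)
    (h1 : ∀ i (j : ℕ) (hj : j + 1 < m i), T (b0 ⟨i, ⟨j, by omega⟩⟩) = b0 ⟨i, ⟨j + 1, hj⟩⟩)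
    (h2 : ∀ i, T (b0 ⟨i, ⟨m i - 1, by have := hm i; omega⟩⟩) +
      ∑ j : Fin (m i), (cf i).getD j 0 • b0 ⟨i, j⟩ = 0) (is : List (Fin d)) :
    Adapted T (seq b0 is) (is.map cf) := by
  induction is with
  | nil => trivial
  | cons i is ih =>
    have hmi := hm i
    refine ⟨?_, ?_, ?_, ?_⟩
    · intro j hj
      rw [hlen] at hj
      rw [seq, seq, dif_pos (by omega), dif_pos hj]
      exact h1 i j hj
    · rw [hlen, vec_eq_sum, hlen]
      rw [Finset.sum_range, seq, dif_pos (by omega)]
      rw [← h2 i]
      congr 1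
      refine Finset.sum_congr rfl fun j _ => ?_
      rw [seq, dif_pos j.2]
    · intro h
      have := hlen i
      rw [h] at this
      simp at this
      omega
    · have h3 : (fun k => seq b0 (i :: is) ((cf i).length + k)) = seq b0 is := by
        funext k
        rw [hlen, seq, dif_neg (by omega), Nat.add_sub_cancel_left]
      rw [h3]
      exact ih

theorem exists_form [FiniteDimensional K V] (hK : Nat.card K = q) (T : Module.End K V)
    (hT : LinearMap.det T ≠ 0) {n : ℕ} (hn : finrank K V = n) :
    ∃ L ∈ allT (blocks q n) n, ∃ b : ℕ → V, LinearIndependent K (fun k : Fin n => b k) ∧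
      ⊤ ≤ Submodule.span K (Set.range fun k : Fin n => b k) ∧
      Adapted (LinearMap.toAddMonoidHom T) b L ∧ tot L = n ∧ (dt q L : K) = LinearMap.det T := by
  classical
  obtain ⟨d, g, v, b0, hg, hb, hann, -⟩ := H953.exists_basis T
  have hmonic : ∀ i, (g i).Monic := by
    intro i
    obtain ⟨r, e, hr, -, -, h⟩ := hg i
    rw [h]; exact hr.pow e
  have hm : ∀ i, 0 < (g i).natDegree := by
    intro i
    obtain ⟨r, e, hr, hri, he, h⟩ := hg i
    rw [h, hr.natDegree_pow]
    exact Nat.mul_pos he hri.natDegree_pos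
  choose rep hrep1 hrep2 using exists_rep hK
  set cf : Fin d → List ℕ := fun i => (List.range (g i).natDegree).map fun j => rep ((g i).coeff j) with hcf
  have hlen : ∀ i, (cf i).length = (g i).natDegree := by intro i; simp [hcf]
  have hget : ∀ i (j : ℕ), j < (g i).natDegree → (cf i).getD j 0 = rep ((g i).coeff j) := by
    intro i j hj
    simp [hcf, List.getD_eq_getElem?_getD, List.getElem?_range, hj]
  have hhead : ∀ i, (cf i).headD 0 = rep ((g i).coeff 0) := by
    intro i
    rw [← hget i 0 (hm i)]
    cases cf i <;> rfl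
  -- the determinant
  have hdet : LinearMap.det T = ∏ i, ((-1) ^ (g i).natDegree * (g i).coeff 0) := by
    rw [← LinearMap.det_toMatrix b0, H953.toMatrix_basis T b0 hmonic hb (fun i => (hann i _).2 dvd_rfl),
      H953.det_blockDiagonal']
    exact Finset.prod_congr rfl fun i _ => H953.det_comp (hmonic i)
  have hc0 : ∀ i, (g i).coeff 0 ≠ 0 := by
    intro i h
    apply hT
    rw [hdet]
    exact Finset.prod_eq_zero (Finset.mem_univ i) (by rw [h, mul_zero])
  have hsum : ∑ i, (g i).natDegree = n := by
    rw [← hn, Module.finrank_eq_card_basis b0, Fintype.card_sigma]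
    simp
  have htot : tot ((List.finRange d).map cf) = n := by
    rw [tot, List.map_map, ← hsum]
    have : List.length ∘ cf = fun i => (g i).natDegree := funext hlen
    rw [this, ← List.ofFn_eq_map, List.sum_ofFn]
  have hblk : ∀ f ∈ (List.finRange d).map cf, f ∈ blocks q n := by
    intro f hf
    obtain ⟨i, _, rfl⟩ := List.mem_map.1 hf
    rw [mem_blocks, hlen, hhead]
    refine ⟨hm i, ?_, ?_, ?_⟩
    · rw [← hsum]
      exact Finset.single_le_sum (f := fun i => (g i).natDegree) (fun _ _ => Nat.zero_le _) (Finset.mem_univ i)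
    · intro a ha
      obtain ⟨j, _, rfl⟩ := List.mem_map.1 ha
      exact hrep1 _
    · intro h
      apply hc0 i
      rw [← hrep2 ((g i).coeff 0), h, Nat.cast_zero]
  obtain ⟨L, hL, hLp⟩ := exists_perm (nodup_blocks q n) (fun f hf => (mem_blocks.1 hf).1) hblk
  obtain ⟨is, his, rfl⟩ := perm_map_lift cf hLp
  rw [htot] at hL
  have htot2 : (is.map fun i => (g i).natDegree).sum = n := by
    rw [← hsum, (his.map _).sum_eq, ← List.ofFn_eq_map, List.sum_ofFn]
  have hspan : ⊤ ≤ Submodule.span K (Set.range fun k : Fin n => seq b0 is k) := by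
    rw [← b0.span_eq, Submodule.span_le]
    rintro _ ⟨⟨i, j⟩, rfl⟩
    obtain ⟨k, hk, h⟩ := seq_surj (fun x => b0 x) is i (his.symm.subset (List.mem_finRange i)) j
    rw [htot2] at hk
    exact Submodule.subset_span ⟨⟨k, hk⟩, h⟩
  refine ⟨is.map cf, hL, seq b0 is, ?_, hspan, ?_, ?_, ?_⟩
  · exact linearIndependent_of_top_le_span_of_card_eq_finrank hspan (by rw [Fintype.card_fin, hn])
  · refine adapted_seq (LinearMap.toAddMonoidHom T) hm _ cf hlen ?_ ?_ is
    · intro i j hj
      show T (b0 ⟨i, ⟨j, _⟩⟩) = _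
      rw [hb, hb, ← Module.End.mul_apply, ← pow_succ']
    · intro i
      show T (b0 ⟨i, ⟨(g i).natDegree - 1, _⟩⟩) + _ = 0
      have h1 := (hann i (g i)).2 dvd_rfl
      rw [Polynomial.aeval_eq_sum_range, Finset.sum_range_succ, LinearMap.add_apply, Polynomial.coeff_natDegree,
        (hmonic i).leadingCoeff, one_smul, add_comm, LinearMap.sum_apply, Finset.sum_range] at h1
      rw [hb, ← Module.End.mul_apply, ← pow_succ']
      have h2 : (g i).natDegree - 1 + 1 = (g i).natDegree := by have := hm i; omega
      simp only [h2]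
      rw [← h1]
      congr 1
      refine Finset.sum_congr rfl fun j _ => ?_
      rw [hget i j j.2, LinearMap.smul_apply, hb, ← Nat.cast_smul_eq_nsmul K, hrep2]
  · rw [tot, List.map_map]
    have : List.length ∘ cf = fun i => (g i).natDegree := funext hlen
    rw [this, htot2]
  · rw [cast_dt hK, hdet, ((his.map cf).map _).prod_eq, List.map_map, ← List.ofFn_eq_map, List.prod_ofFn]
    · refine Finset.prod_congr rfl fun i _ => ?_
      simp only [Function.comp_apply]
      rw [hlen, hhead, hrep2]
    · intro f hf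
      obtain ⟨i, _, rfl⟩ := List.mem_map.1 hf
      rw [hhead]
      exact (hrep1 _).le

end Form

end Cfsg.Agent.H143.Fact
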