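import Cfsg.Agent.H143.Fact.Cover

/-!
# Factorisation tables: the check and its meaning (helper143)

`chk q n P f g data = true` : for every block list `L` with `P L = true` the data contain a matrix `X` and its inverse
with `X` of characteristic polynomial `f` and `X⁻¹ A` of characteristic polynomial `g`.
-/

set_option autoImplicit false

namespace Cfsg.Agent.H143.Fact

open Polynomial Module

/-- `n` digits of `N` in base `q` -/
def dig (q : ℕ) : ℕ → ℕ → List ℕ
  | 0, _ => []
  | k + 1, N => (N % q) :: dig q k (N / q)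

/-- `k` columns of length `n` from the number `N` -/
def cut (q n : ℕ) : ℕ → ℕ → List (List ℕ)
  | 0, _ => []
  | k + 1, N => dig q n (N % q ^ n) :: cut q n k (N / q ^ n)

theorem length_dig (q k N : ℕ) : (dig q k N).length = k := by
  induction k generalizing N with
  | zero => rfl
  | succ k ih => simp [dig, ih]

theorem length_cut (q n k N : ℕ) : (cut q n k N).length = k := by
  induction k generalizing N with
  | zero => rfl
  | succ k ih => simp [cut, ih]

theorem length_of_mem_cut (q n k N : ℕ) : ∀ c ∈ cut q n k N, c.length = n := by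
  induction k generalizing N with
  | zero => intro c hc; simp [cut] at hc
  | succ k ih =>
    intro c hc
    rcases List.mem_cons.1 hc with rfl | hc
    · exact length_dig _ _ _
    · exact ih _ c hc

/-- the check for one block list -/
def okX (q n : ℕ) (f fs g : List ℕ) (L : List (List ℕ)) (N : ℕ × ℕ) : Bool :=
  let Xc := cut q n n N.1
  let Xi := cut q n n N.2
  let A := (List.range n).map (col q L)
  ((List.range n).all fun k => allZ (addm q (q - 1) (List.replicate k 0 ++ [1]) (mulV q Xc (Xi.getD k [])))) &&
    (allZ (evF q (mulV q Xc) (f ++ [1]) [1]) && allZ (evF q (mulV q Xi) (fs ++ [1]) [1]) &&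
      allZ (evF q (fun v => mulV q Xi (mulV q A v)) (g ++ [1]) [1]))

/-- two lists checked in parallel -/
def all2 {α β : Type*} (f : α → β → Bool) : List α → List β → Bool
  | [], _ => true
  | _ :: _, [] => false
  | a :: as, b :: bs => f a b && all2 f as bs

theorem exists_of_all2 {α β : Type*} {f : α → β → Bool} {l : List α} :
    ∀ {d : List β}, all2 f l d = true → ∀ x ∈ l, ∃ y, f x y = true := by
  induction l with
  | nil => intro d _ x hx; simp at hx
  | cons a l ih =>
    intro d h x hx
    cases d with
    | nil => simp [all2] at h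
    | cons b d =>
      rw [all2, Bool.and_eq_true] at h
      rcases List.mem_cons.1 hx with rfl | hx
      · exact ⟨b, h.1⟩
      · exact ih h.2 x hx

/-- the whole check -/
def chk (q n : ℕ) (P : List (List ℕ) → Bool) (f fs g : List ℕ) (data : List (ℕ × ℕ)) : Bool :=
  all2 (okX q n f fs g) ((allT (blocks q n) n).filter P) data

section Meaning

variable {K : Type*} [Field K] {V : Type*} [AddCommGroup V] [Module K V] {q : ℕ} [hqp : Fact q.Prime]

/-- an irreducible polynomial of degree `dim V` annihilating a nonzero vector is the characteristic polynomial -/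
theorem charpoly_eq_of_ann [FiniteDimensional K V] (T : Module.End K V) {f : K[X]} (hf : f.Monic)
    (hfi : Irreducible f) (hd : f.natDegree = finrank K V) {v : V} (hv : v ≠ 0) (h : aeval T f v = 0) :
    LinearMap.charpoly T = f := by
  have h1 : f ∣ LinearMap.charpoly T := by
    by_contra hcon
    have hc : IsCoprime f (LinearMap.charpoly T) := (hfi.coprime_iff_not_dvd).2 hcon
    obtain ⟨a, b, hab⟩ := hc
    apply hv
    have h2 : aeval T (a * f + b * LinearMap.charpoly T) v = v := by
      rw [hab, map_one, Module.End.one_apply]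
    rw [map_add, map_mul, map_mul, LinearMap.aeval_self_charpoly, mul_zero, add_zero, Module.End.mul_apply, h,
      map_zero] at h2
    exact h2.symm
  exact Polynomial.eq_of_monic_of_dvd_of_natDegree_le hf (LinearMap.charpoly_monic T) h1 (by
    rw [LinearMap.charpoly_natDegree, hd])

theorem monic_pol_append (f : List ℕ) : (pol K (f ++ [1])).Monic ∧ (pol K (f ++ [1])).natDegree = f.length := by
  induction f with
  | nil => simp [pol, monic_one]
  | cons a f ih =>
    rw [List.cons_append, pol]
    have h1 : (X * pol K (f ++ [1])).Monic := monic_X.mul ih.1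
    have h2 : (X * pol K (f ++ [1])).natDegree = f.length + 1 := by
      rw [monic_X.natDegree_mul ih.1, natDegree_X, ih.2, add_comm]
    have h3 : (C (a : K)).degree < (X * pol K (f ++ [1])).degree := by
      refine lt_of_le_of_lt degree_C_le ?_
      rw [degree_eq_natDegree h1.ne_zero, h2]
      exact_mod_cast Nat.succ_pos _
    refine ⟨h1.add_of_right h3, ?_⟩
    rw [natDegree_add_eq_right_of_degree_lt h3, h2, List.length_cons]

theorem fact_of_okX [FiniteDimensional K V] (hK : Nat.card K = q) {n : ℕ} (hn0 : 0 < n) (hn : finrank K V = n)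
    {T : Module.End K V} {L : List (List ℕ)} {b : ℕ → V} (hli : LinearIndependent K (fun k : Fin n => b k))
    (hsp : ⊤ ≤ Submodule.span K (Set.range fun k : Fin n => b k))
    (hA : Adapted (LinearMap.toAddMonoidHom T) b L) (htot : tot L = n) {f fs g : List ℕ} {N : ℕ × ℕ}
    (hf : f.length = n) (hfs : fs.length = n) (hg : g.length = n) (hfi : Irreducible (pol K (f ++ [1])))
    (hfsi : Irreducible (pol K (fs ++ [1]))) (hgi : Irreducible (pol K (g ++ [1])))
    (h : okX q n f fs g L N = true) :
    ∃ A A' B : Module.End K V, T = A * B ∧ A * A' = 1 ∧ LinearMap.charpoly A = pol K (f ++ [1]) ∧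
      LinearMap.charpoly A' = pol K (fs ++ [1]) ∧ LinearMap.charpoly B = pol K (g ++ [1]) := by
  classical
  have hq : ∀ v : V, q • v = 0 := fun v => nsmul_q hK v
  have hq0 : 0 < q := hqp.out.pos
  set e : Basis (Fin n) K V := Basis.mk hli hsp with he
  have he' : ∀ k : Fin n, e k = b k := fun k => Basis.mk_apply _ _ _
  set Xc := cut q n n N.1 with hXc
  set Xi := cut q n n N.2 with hXi
  set Ac := (List.range n).map (col q L) with hAc
  simp only [okX, Bool.and_eq_true, List.all_eq_true, List.mem_range, ← hXc, ← hXi, ← hAc] at h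
  obtain ⟨h1, ⟨h2, h2'⟩, h3⟩ := h
  -- operators given by columns
  have key : ∀ (cols : List (List ℕ)), cols.length = n → (∀ c ∈ cols, c.length ≤ n) → ∃ A : Module.End K V,
      ∀ v : List ℕ, v.length ≤ n → (mulV q cols v).length ≤ n ∧ vec b (mulV q cols v) = A (vec b v) := by
    intro cols hc hcl
    refine ⟨e.constr K fun k => vec b (cols.getD k []), fun v hv => ⟨length_mulV q n cols hcl v, ?_⟩⟩
    refine vec_mulV hq (LinearMap.toAddMonoidHom (e.constr K fun k => vec b (cols.getD k []))) b cols v b ?_
      (by rw [hc]; exact hv)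
    intro k hk
    have h4 : (LinearMap.toAddMonoidHom (e.constr K fun k => vec b (cols.getD k []))) (b k) =
      e.constr K (fun k => vec b (cols.getD k [])) (e ⟨k, by rw [← hc]; exact hk⟩) := by
      rw [he']
      rfl
    rw [h4, e.constr_basis]
    simp [List.getD_eq_getElem?_getD, hk]
  obtain ⟨A, hAA⟩ := key Xc (length_cut _ _ _ _) fun c hc => (length_of_mem_cut _ _ _ _ c hc).le
  obtain ⟨A', hA'⟩ := key Xi (length_cut _ _ _ _) fun c hc => (length_of_mem_cut _ _ _ _ c hc).le
  have hT : ∀ v : List ℕ, v.length ≤ n → (mulV q Ac v).length ≤ n ∧ vec b (mulV q Ac v) = T (vec b v) := by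
    intro v hv
    refine ⟨length_mulV q n Ac (fun c hc => ?_) v, ?_⟩
    · obtain ⟨k, _, rfl⟩ := List.mem_map.1 hc
      rw [← htot]
      exact length_col q L k
    · refine vec_mulV hq (LinearMap.toAddMonoidHom T) b Ac v b ?_ (by simp [hAc]; exact hv)
      intro k hk
      have hk' : k < n := by simpa [hAc] using hk
      rw [adapted_col hq0 hq _ L b hA k (by rw [← tot, htot]; exact hk')]
      simp [hAc]
  have hb1 : ∀ k, vec b (List.replicate k 0 ++ [1]) = b k := by
    intro k
    rw [vec_zeros]
    simp [vec]
  have hone : ∀ k, k < n → (List.replicate k 0 ++ [1]).length ≤ n := by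
    intro k hk
    simp only [List.length_append, List.length_replicate, List.length_cons, List.length_nil]
    omega
  have hcol : ∀ (cols : List (List ℕ)) (j : ℕ), vec b (mulV q cols (List.replicate j 0 ++ [1])) =
      vec b (cols.getD j []) := by
    intro cols
    induction cols with
    | nil => intro j; cases j <;> simp [mulV, vec]
    | cons c cs ih =>
      intro j
      cases j with
      | zero =>
        have : mulV q cs [] = [] := by cases cs <;> rfl
        simp [mulV, vec_addm hq, this, vec]
      | succ j => simp [List.replicate_succ, mulV, vec_addm hq, ih]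
  have hinv : A * A' = 1 := by
    apply e.ext
    intro k
    have e1 : A' (b k) = vec b (Xi.getD k []) := by
      rw [← hcol Xi k, (hA' _ (hone k k.2)).2, hb1]
    have hlen : (Xi.getD k []).length ≤ n := by
      by_cases hk : (k : ℕ) < Xi.length
      · rw [List.getD_eq_getElem _ _ hk]
        exact (length_of_mem_cut _ _ _ _ _ (List.getElem_mem hk)).le
      · rw [List.getD_eq_default _ _ (not_lt.1 hk)]
        exact Nat.zero_le _
    have h4 := vec_allZ _ b (h1 k k.2)
    rw [vec_addm hq, hb1] at h4
    have h8 : (q - 1) • b k + b k = 0 := by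
      have : ((q - 1) + 1) • b k = 0 := by rw [Nat.sub_add_cancel hq0]; exact hq _
      rwa [add_smul, one_smul] at this
    rw [he', Module.End.mul_apply, Module.End.one_apply, e1, ← (hAA _ hlen).2]
    exact add_left_cancel (h4.trans h8.symm)
  have hinv' : A' * A = 1 := by
    have h5 : Function.Injective A' := by
      intro x y hxy
      have h6 := congrArg A hxy
      rwa [← Module.End.mul_apply, ← Module.End.mul_apply, hinv, Module.End.one_apply, Module.End.one_apply] at h6
    ext x
    apply h5
    obtain ⟨y, rfl⟩ := (LinearMap.injective_iff_surjective.1 h5) x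
    rw [Module.End.mul_apply, Module.End.one_apply, ← Module.End.mul_apply A A', hinv, Module.End.one_apply]
  have hb0 : vec b [1] ≠ 0 := by
    have h4 : vec b [1] = e ⟨0, hn0⟩ := by rw [he']; simp [vec]
    rw [h4]
    exact e.ne_zero _
  refine ⟨A, A', A' * T, by rw [← mul_assoc, hinv, one_mul], hinv, ?_, ?_, ?_⟩
  · refine charpoly_eq_of_ann A (monic_pol_append f).1 hfi (by rw [(monic_pol_append f).2, hf, hn]) hb0 ?_
    rw [← vec_evF (n := n) hq A b (mulV q Xc) hAA (f ++ [1]) [1] (by simp; omega)]
    exact vec_allZ _ b h2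
  · refine charpoly_eq_of_ann A' (monic_pol_append fs).1 hfsi (by rw [(monic_pol_append fs).2, hfs, hn]) hb0 ?_
    rw [← vec_evF (n := n) hq A' b (mulV q Xi) hA' (fs ++ [1]) [1] (by simp; omega)]
    exact vec_allZ _ b h2'
  · refine charpoly_eq_of_ann (A' * T) (monic_pol_append g).1 hgi (by rw [(monic_pol_append g).2, hg, hn]) hb0 ?_
    rw [← vec_evF (n := n) hq (A' * T) b (fun v => mulV q Xi (mulV q Ac v)) (fun v hv => ?_) (g ++ [1]) [1]
      (by simp; omega)]
    · exact vec_allZ _ b h3
    · obtain ⟨h4, h5⟩ := hT v hv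
      obtain ⟨h6, h7⟩ := hA' _ h4
      exact ⟨h6, by rw [h7, h5, Module.End.mul_apply]⟩

/-- **Matrix form.** -/
theorem fact_matrix (hK : Nat.card K = q) {n : ℕ} (hn0 : 0 < n) {P : List (List ℕ) → Bool} {f fs g : List ℕ}
    {data : List (ℕ × ℕ)} (hf : f.length = n) (hfs : fs.length = n) (hg : g.length = n)
    (hfi : Irreducible (pol K (f ++ [1]))) (hfsi : Irreducible (pol K (fs ++ [1])))
    (hgi : Irreducible (pol K (g ++ [1]))) (h : chk q n P f fs g data = true) (A : Matrix (Fin n) (Fin n) K)
    {L : List (List ℕ)} (hL : L ∈ allT (blocks q n) n) (hPL : P L = true) {b : ℕ → Fin n → K}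
    (hli : LinearIndependent K (fun k : Fin n => b k))
    (hsp : ⊤ ≤ Submodule.span K (Set.range fun k : Fin n => b k))
    (hA : Adapted (LinearMap.toAddMonoidHom (Matrix.toLin' A)) b L) (htot : tot L = n) :
    ∃ X X' Y : Matrix (Fin n) (Fin n) K, A = X * Y ∧ X * X' = 1 ∧ X.charpoly = pol K (f ++ [1]) ∧
      X'.charpoly = pol K (fs ++ [1]) ∧ Y.charpoly = pol K (g ++ [1]) := by
  obtain ⟨N, hN⟩ := exists_of_all2 h L (List.mem_filter.2 ⟨hL, hPL⟩)
  obtain ⟨X, X', Y, h1, h2, h3, h4, h5⟩ := fact_of_okX hK hn0 (by simp) hli hsp hA htot hf hfs hg hfi hfsi hgi hN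
  refine ⟨LinearMap.toMatrix' X, LinearMap.toMatrix' X', LinearMap.toMatrix' Y, ?_, ?_, ?_, ?_, ?_⟩
  · rw [← LinearMap.toMatrix'_mul, ← h1, LinearMap.toMatrix'_toLin']
  · rw [← LinearMap.toMatrix'_mul, h2, LinearMap.toMatrix'_one]
  · rw [← h3, ← Matrix.charpoly_toLin', Matrix.toLin'_toMatrix']
  · rw [← h4, ← Matrix.charpoly_toLin', Matrix.toLin'_toMatrix']
  · rw [← h5, ← Matrix.charpoly_toLin', Matrix.toLin'_toMatrix']

end Meaning

section Irr

/-- product of coefficient lists -/
def mulP (q : ℕ) : List ℕ → List ℕ → List ℕ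
  | [], _ => []
  | a :: f, g => addm q a g (0 :: mulP q f g)

/-- irreducibility check -/
def irrChk (q : ℕ) (f : List ℕ) : Bool :=
  (List.range (f.length / 2)).all fun k => (digs q (k + 1)).all fun a => (digs q (f.length - (k + 1))).all fun b =>
    !allZ (addm q (q - 1) (f ++ [1]) (mulP q (a ++ [1]) (b ++ [1])))

variable {K : Type*} [Field K] {q : ℕ} [hqp : Fact q.Prime]

theorem pol_eq_vec (l : List ℕ) : pol K l = vec (fun k => (X : K[X]) ^ k) l := by
  have h : ∀ l : List ℕ, ∀ m : ℕ, X ^ m * pol K l = vec (fun k => (X : K[X]) ^ (m + k)) l := by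
    intro l
    induction l with
    | nil => intro m; simp [pol, vec]
    | cons a l ih =>
      intro m
      rw [pol, vec, mul_add, ← mul_assoc, ← pow_succ, ih (m + 1)]
      congr 1
      · simp [mul_comm]
      · congr 1
        funext k
        congr 1
        omega
  have := h l 0
  simpa using this

theorem pol_addm (hK : Nat.card K = q) (c : ℕ) (u v : List ℕ) :
    pol K (addm q c u v) = (c : K[X]) * pol K u + pol K v := by
  rw [pol_eq_vec, vec_addm (fun w => by
    rw [nsmul_eq_mul, ← C_eq_natCast, cast_q hK, C_0, zero_mul]), ← pol_eq_vec, ← pol_eq_vec, nsmul_eq_mul]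

theorem pol_mulP (hK : Nat.card K = q) (f g : List ℕ) : pol K (mulP q f g) = pol K f * pol K g := by
  induction f with
  | nil => simp [mulP, pol]
  | cons a f ih =>
    rw [mulP, pol_addm hK, pol, pol, ih]
    simp
    ring

omit hqp in
theorem lt_of_mem_addm (hq : 0 < q) (c : ℕ) (u : List ℕ) : ∀ v : List ℕ, (∀ x ∈ v, x < q) →
    ∀ x ∈ addm q c u v, x < q := by
  induction u with
  | nil => intro v hv; simpa [addm] using hv
  | cons y us ih =>
    intro v hv x hx
    cases v with
    | nil =>
      rw [addm, List.mem_cons] at hx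
      rcases hx with rfl | hx
      · exact Nat.mod_lt _ hq
      · exact ih [] (by simp) x hx
    | cons z vs =>
      rw [addm, List.mem_cons] at hx
      rcases hx with rfl | hx
      · exact Nat.mod_lt _ hq
      · exact ih vs (fun w hw => hv w (by simp [hw])) x hx

theorem lt_of_mem_mulP (hq : 0 < q) (f g : List ℕ) : ∀ x ∈ mulP q f g, x < q := by
  induction f with
  | nil => intro x hx; simp [mulP] at hx
  | cons a f ih =>
    apply lt_of_mem_addm hq
    intro x hx
    rcases List.mem_cons.1 hx with rfl | hx
    · exact hq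
    · exact ih x hx

theorem allZ_of_pol (hK : Nat.card K = q) (l : List ℕ) (hl : ∀ x ∈ l, x < q) (h : pol K l = 0) :
    allZ l = true := by
  induction l with
  | nil => rfl
  | cons a l ih =>
    rw [pol] at h
    have h0 : (a : K) = 0 := by
      have := congrArg (fun p => p.coeff 0) h
      simpa using this
    have ha : a = 0 := cast_inj_of_lt hK (hl a (by simp)) hqp.out.pos (by rw [h0, Nat.cast_zero])
    rw [h0, C_0, zero_add] at h
    have h1 := ih (fun x hx => hl x (by simp [hx])) ((mul_eq_zero.1 h).resolve_left X_ne_zero)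
    rw [allZ, List.all_cons, Bool.and_eq_true]
    exact ⟨by rw [ha]; rfl, h1⟩

/-- every monic polynomial has a coefficient list -/
theorem exists_list (hK : Nat.card K = q) {p : K[X]} (hp : p.Monic) :
    ∃ l ∈ digs q p.natDegree, pol K (l ++ [1]) = p := by
  choose rep hrep1 hrep2 using exists_rep hK
  have h : ∀ (d : ℕ) (p : K[X]), p.Monic → p.natDegree = d → ∃ l ∈ digs q d, pol K (l ++ [1]) = p := by
    intro d
    induction d with
    | zero =>
      intro p hp hd
      refine ⟨[], by simp [digs], ?_⟩
      rw [hp.natDegree_eq_zero.1 hd]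
      simp [pol]
    | succ d ih =>
      intro p hp hd
      have h1 : p.divX.natDegree = d := by rw [natDegree_divX_eq_natDegree_tsub_one, hd]; rfl
      have h2 : p.divX.Monic := by
        rw [Monic, leadingCoeff, h1, coeff_divX, ← hd]
        exact hp
      obtain ⟨l, hl, hl2⟩ := ih _ h2 h1
      refine ⟨rep (p.coeff 0) :: l, ?_, ?_⟩
      · rw [mem_digs] at hl ⊢
        refine ⟨by simp [hl.1], fun x hx => ?_⟩
        rcases List.mem_cons.1 hx with rfl | hx
        · exact hrep1 _
        · exact hl.2 x hx
      · rw [List.cons_append, pol, hl2, hrep2]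
        rw [add_comm, X_mul_divX_add]
  exact h _ p hp rfl

theorem irreducible_pol (hK : Nat.card K = q) {f : List ℕ} (hf : f ≠ []) (h : irrChk q f = true) :
    Irreducible (pol K (f ++ [1])) := by
  obtain ⟨hm, hd⟩ := monic_pol_append (K := K) f
  have hpos : 0 < f.length := List.length_pos_of_ne_nil hf
  have hne : pol K (f ++ [1]) ≠ 1 := by
    intro h1
    rw [h1, natDegree_one] at hd
    omega
  rw [hm.irreducible_iff_natDegree']
  refine ⟨hne, ?_⟩
  intro a b ha hb hab hmem
  rw [hd, Finset.mem_Ioc] at hmem
  obtain ⟨la, hla, hla2⟩ := exists_list hK ha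
  obtain ⟨lb, hlb, hlb2⟩ := exists_list hK hb
  have hsum : a.natDegree + b.natDegree = f.length := by rw [← ha.natDegree_mul hb, hab, hd]
  simp only [irrChk, List.all_eq_true, List.mem_range] at h
  have h1 := h (b.natDegree - 1) (by omega) lb (by rw [Nat.sub_add_cancel hmem.1]; exact hlb) la (by
    rw [Nat.sub_add_cancel hmem.1, show f.length - b.natDegree = a.natDegree by omega]; exact hla)
  rw [Bool.not_eq_true', Bool.eq_false_iff] at h1
  apply h1
  apply allZ_of_pol hK
  · exact lt_of_mem_addm hqp.out.pos _ _ _ (lt_of_mem_mulP hqp.out.pos _ _)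
  · rw [pol_addm hK, pol_mulP hK, hla2, hlb2, mul_comm b a, hab, Nat.cast_sub hqp.out.one_le]
    rw [← C_eq_natCast q, cast_q hK]
    simp

end Irr

end Cfsg.Agent.H143.Fact
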