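import Cfsg.Agent.H166.Cov.ThmH

/-!
# The factorization theorem `thmH` for fields with at least 3 elements (helper143)

Copy of `H158.Pencil.exists_pencil` and `H166.Cov.ThmH.thmH` with the numerical inequality for `3 ≤ q`.
-/

set_option autoImplicit false

namespace Cfsg.Agent.H143.Fact

open Module Polynomial Cfsg.Agent.H166.Cov Cfsg.Agent.H158.Pencil

universe u

variable {F : Type u} [Field F] {V W U : Type u} [AddCommGroup V] [Module F V]
  [AddCommGroup W] [Module F W] [AddCommGroup U] [Module F U]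

/-- numerical inequality -/
theorem prod_ineq3 {q m : ℕ} (hq : 3 ≤ q) :
    q ^ (m * m) < 2 * ∏ i : Fin m, (q ^ m - q ^ (i : ℕ)) := by
  have key : ∀ k ≤ m, ((q : ℝ) ^ m) ^ k * ((q - 1) * (q : ℝ) ^ m - (q ^ k - 1)) ≤
      (q : ℝ) ^ m * (q - 1) * ∏ i ∈ Finset.range k, ((q : ℝ) ^ m - q ^ i) := by
    intro k
    induction k with
    | zero =>
      intro _
      simp
      ring_nf
      exact le_refl _
    | succ k ih =>
      intro hk
      have h1 := ih (by omega)
      rw [Finset.prod_range_succ]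
      have hq1 : (1 : ℝ) ≤ q := by
        have : (3 : ℝ) ≤ q := by exact_mod_cast hq
        linarith
      have h2 : (0 : ℝ) ≤ (q : ℝ) ^ m - q ^ k := by
        rw [sub_nonneg]
        exact pow_le_pow_right₀ hq1 (by omega)
      have h3 := mul_le_mul_of_nonneg_right h1 h2
      have h4 : (1 : ℝ) ≤ (q : ℝ) ^ k := one_le_pow₀ hq1
      have h5 : (0 : ℝ) ≤ ((q : ℝ) ^ m) ^ k := by positivity
      have h6 : 0 ≤ ((q : ℝ) ^ m) ^ k * (((q : ℝ) ^ k - 1) * q ^ k) := by
        apply mul_nonneg h5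
        apply mul_nonneg (by linarith) (by linarith)
      calc ((q : ℝ) ^ m) ^ (k + 1) * ((q - 1) * (q : ℝ) ^ m - (q ^ (k + 1) - 1))
          ≤ ((q : ℝ) ^ m) ^ k * ((q - 1) * (q : ℝ) ^ m - (q ^ k - 1)) * ((q : ℝ) ^ m - q ^ k) := by
            have e : ((q : ℝ) ^ m) ^ k * ((q - 1) * (q : ℝ) ^ m - (q ^ k - 1)) *
                ((q : ℝ) ^ m - q ^ k) = ((q : ℝ) ^ m) ^ (k + 1) *
                ((q - 1) * (q : ℝ) ^ m - (q ^ (k + 1) - 1)) +
                ((q : ℝ) ^ m) ^ k * (((q : ℝ) ^ k - 1) * q ^ k) := by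
              ring
            rw [e]
            linarith
        _ ≤ _ := h3
        _ = _ := by ring
  have h := key m le_rfl
  have hq1 : (3 : ℝ) ≤ q := by exact_mod_cast hq
  have hQ : (0 : ℝ) < (q : ℝ) ^ m := by positivity
  have hQm : (0 : ℝ) < ((q : ℝ) ^ m) ^ m := by positivity
  set r : ℝ := ∏ i ∈ Finset.range m, ((q : ℝ) ^ m - q ^ i) with hr
  have h7 : ((q : ℝ) ^ m) ^ m * ((q - 2) * (q : ℝ) ^ m) < (q : ℝ) ^ m * (q - 1) * r := by
    refine lt_of_lt_of_le ?_ h
    apply mul_lt_mul_of_pos_left _ hQm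
    linarith
  have h8 : ((q : ℝ) ^ m) ^ m * (q - 2) < (q - 1) * r := by
    have : (q : ℝ) ^ m * (((q : ℝ) ^ m) ^ m * (q - 2)) < (q : ℝ) ^ m * ((q - 1) * r) := by
      calc _ = ((q : ℝ) ^ m) ^ m * ((q - 2) * (q : ℝ) ^ m) := by ring
        _ < _ := h7
        _ = _ := by ring
    exact lt_of_mul_lt_mul_left this hQ.le
  have h9 : ((q : ℝ) ^ m) ^ m < 2 * r := by
    by_contra hcon
    rw [not_lt] at hcon
    have : (q - 1) * (2 * r) ≤ (q - 1) * ((q : ℝ) ^ m) ^ m :=
      mul_le_mul_of_nonneg_left hcon (by linarith)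
    nlinarith
  have h10 : ((∏ i : Fin m, (q ^ m - q ^ (i : ℕ)) : ℕ) : ℝ) = r := by
    rw [Nat.cast_prod, hr, Finset.prod_range]
    refine Finset.prod_congr rfl fun i _ => ?_
    rw [Nat.cast_sub (Nat.pow_le_pow_right (by omega) i.2.le)]
    push_cast
    rfl
  have h11 : ((q ^ (m * m) : ℕ) : ℝ) = ((q : ℝ) ^ m) ^ m := by
    push_cast
    rw [pow_mul]
  have : ((q ^ (m * m) : ℕ) : ℝ) < ((2 * ∏ i : Fin m, (q ^ m - q ^ (i : ℕ)) : ℕ) : ℝ) := by
    rw [Nat.cast_mul, h10, h11]
    exact_mod_cast h9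
  exact_mod_cast this

theorem card_good3 [Finite F] (hq : 3 ≤ Nat.card F) [FiniteDimensional F W]
    [FiniteDimensional F U] {k : ℕ} (hW : finrank F W = k + 1)
    (hd : finrank F U = finrank F W + 1) (a : W →ₗ[F] U) (ha : Function.Injective a) :
    Nat.card (W →ₗ[F] U) < 2 * Nat.card (Good a) := by
  classical
  have : Fintype F := Fintype.ofFinite F
  have : Finite W := Module.finite_of_finite F
  have : Finite U := Module.finite_of_finite F
  have : Finite (W →ₗ[F] U) := Finite.of_injective (fun f => (f : W → U)) DFunLike.coe_injective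
  obtain ⟨u, hu⟩ : ∃ u, u ∉ LinearMap.range a := by
    by_contra hcon
    push Not at hcon
    have h1 : LinearMap.range a = ⊤ := by
      rw [eq_top_iff]; intro x _; exact hcon x
    have h2 := LinearMap.finrank_range_of_inj ha
    rw [h1, finrank_top] at h2
    omega
  let e : W ≃ₗ[F] (Fin (k + 1) → F) := LinearEquiv.ofFinrankEq _ _ (by rw [hW]; simp)
  let Φ : GL (Fin (k + 1)) F × (Fin (k + 1) → F) → Good a := fun p =>
    ⟨mk a u (crd e p.1) p.2, mk_good ha hu _ _⟩
  have hΦ : Function.Injective Φ := by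
    rintro ⟨M, c⟩ ⟨N, d⟩ h
    have h1 := congrArg Subtype.val h
    obtain ⟨h2, h3⟩ := mk_inj ha hu h1
    exact Prod.ext (crd_inj e h2) h3
  have h1 : Nat.card (GL (Fin (k + 1)) F × (Fin (k + 1) → F)) ≤ Nat.card (Good a) :=
    Nat.card_le_card_of_injective Φ hΦ
  rw [Nat.card_prod, Matrix.card_GL_field, Nat.card_fun, Nat.card_eq_fintype_card (α := Fin (k+1)),
    Fintype.card_fin, ← Nat.card_eq_fintype_card (α := F)] at h1
  have h2 : Nat.card (W →ₗ[F] U) = Nat.card F ^ ((k + 1) * (k + 2)) := by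
    rw [Module.natCard_eq_pow_finrank (K := F), finrank_linearMap, hd, hW]
  have h3 := prod_ineq3 (m := k + 1) hq
  rw [h2]
  have h4 : Nat.card F ^ ((k + 1) * (k + 2)) =
      Nat.card F ^ ((k + 1) * (k + 1)) * Nat.card F ^ (k + 1) := by
    rw [← pow_add]; ring_nf
  rw [h4]
  have hpos : 0 < Nat.card F ^ (k + 1) := by
    apply pow_pos; omega
  calc _ < (2 * ∏ i : Fin (k + 1), (Nat.card F ^ (k + 1) - Nat.card F ^ (i : ℕ))) *
        Nat.card F ^ (k + 1) := (Nat.mul_lt_mul_right hpos).2 h3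
    _ = 2 * ((∏ i : Fin (k + 1), (Nat.card F ^ (k + 1) - Nat.card F ^ (i : ℕ))) *
        Nat.card F ^ (k + 1)) := by ring
    _ ≤ _ := Nat.mul_le_mul_left _ h1

theorem exists_pencil3 [Finite F] (hq : 3 ≤ Nat.card F) [FiniteDimensional F W]
    [FiniteDimensional F U] (hd : finrank F U = finrank F W + 1) (a b : W →ₗ[F] U)
    (ha : Function.Injective a) (hb : Function.Injective b) :
    ∃ D : W →ₗ[F] U, (∀ S : Submodule F W, (∀ x ∈ S, ∃ y ∈ S, D x = a y) → S = ⊥) ∧
      (∀ S : Submodule F W, (∀ x ∈ S, ∃ y ∈ S, D x = b y) → S = ⊥) := by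
  classical
  have : Finite W := Module.finite_of_finite F
  have : Finite U := Module.finite_of_finite F
  have : Finite (W →ₗ[F] U) := Finite.of_injective (fun f => (f : W → U)) DFunLike.coe_injective
  rcases Nat.eq_zero_or_pos (finrank F W) with h0 | h0
  · have h1 : ∀ x : W, x = 0 := by
      have := finrank_zero_iff.1 h0
      exact fun x => Subsingleton.elim _ _
    refine ⟨0, fun S _ => ?_, fun S _ => ?_⟩ <;>
    · rw [eq_bot_iff]; intro x _; rw [Submodule.mem_bot]; exact h1 x
  · obtain ⟨k, hk⟩ := Nat.exists_eq_succ_of_ne_zero h0.ne'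
    have h1 := card_good3 hq hk hd a ha
    have h2 := card_good3 hq hk hd b hb
    by_contra hcon
    have hdis : Disjoint (Good a) (Good b) := by
      rw [Set.disjoint_left]
      intro D hDa hDb
      exact hcon ⟨D, hDa, hDb⟩
    have h3 : (Good a ∪ Good b).ncard = (Good a).ncard + (Good b).ncard :=
      Set.ncard_union_eq hdis (Set.toFinite _) (Set.toFinite _)
    have h4 : (Good a ∪ Good b).ncard ≤ Nat.card (W →ₗ[F] U) := by
      rw [← Set.ncard_univ]
      exact Set.ncard_le_ncard (Set.subset_univ _) (Set.toFinite _)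
    have h5 := Nat.card_coe_set_eq (Good a)
    have h6 := Nat.card_coe_set_eq (Good b)
    omega

/-- **The main factorization theorem.** -/
theorem thmH3 [Finite F] (hq : 3 ≤ Nat.card F) [FiniteDimensional F V] (_hn : 2 ≤ finrank F V)
    {g : End F V} (hg : NS g) (hg0 : LinearMap.det g ≠ 0) {ν : F} {p f : F[X]} (hp : p.Monic)
    (hpd : p.natDegree + 1 = finrank F V) (hp0 : p.coeff 0 ≠ 0) (hpν : p.eval ν ≠ 0) (hf : f.Monic)
    (hfd : f.natDegree = finrank F V)
    (hc : (-1) ^ finrank F V * f.coeff 0 =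
      LinearMap.det g * ((-1) ^ finrank F V * ((X - C ν) * p).coeff 0)) :
    ∃ (M Y : End F V) (φ : V →ₗ[F] F), Coc M ∧ LinearMap.charpoly M = (X - C ν) * p ∧
      LinearMap.charpoly Y = f ∧ g * M = Y ∧ Obs φ Y ∧ ∀ x, φ (M x) = ν * φ x := by
  obtain ⟨φ, hφ⟩ := hg.exists_dual
  let e : V ≃ₗ[F] V := LinearMap.equivOfDetNeZero g hg0
  have he : ∀ x, e x = g x := fun x => rfl
  -- the hyperplane
  let H : Submodule F V := LinearMap.ker φ
  have hφ0 : φ ≠ 0 := by
    rintro rfl
    exact hφ 0 (by ext; simp)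
  obtain ⟨v, hv⟩ : ∃ v, φ v = 1 := by
    obtain ⟨w, hw⟩ : ∃ w, φ w ≠ 0 := by
      by_contra h
      push Not at h
      exact hφ0 (LinearMap.ext h)
    exact ⟨(φ w)⁻¹ • w, by rw [map_smul, smul_eq_mul, inv_mul_cancel₀ hw]⟩
  have hHd : finrank F H + 1 = finrank F V := by
    have h1 := LinearMap.finrank_range_add_finrank_ker φ
    have h2 : LinearMap.range φ = ⊤ := LinearMap.range_eq_top.2 fun c => ⟨c • v, by simp [hv]⟩
    rw [h2, finrank_top, finrank_self] at h1
    change 1 + finrank F H = finrank F V at h1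
    omega
  let χ : H →ₗ[F] F := (φ ∘ₗ g) ∘ₗ H.subtype
  have hχ : ∀ h : H, χ h = φ (g h) := fun h => rfl
  have hχ0 : χ ≠ 0 := by
    intro h
    apply hφ (φ (g v))
    ext x
    have h1 : χ ⟨x - φ x • v, by simp [H, hv]⟩ = 0 := by rw [h]; rfl
    rw [hχ] at h1
    simp only [map_sub, map_smul, smul_eq_mul] at h1
    rw [LinearMap.comp_apply, LinearMap.smul_apply, smul_eq_mul, sub_eq_zero.1 h1, mul_comm]
  let K : Submodule F H := LinearMap.ker χ
  have hKd : finrank F H = finrank F K + 1 := by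
    have h1 := LinearMap.finrank_range_add_finrank_ker χ
    have h2 : LinearMap.range χ = ⊤ := by
      rw [LinearMap.range_eq_top]
      exact LinearMap.surjective hχ0
    rw [h2, finrank_top, finrank_self] at h1
    change 1 + finrank F K = finrank F H at h1
    omega
  let b : K →ₗ[F] H := K.subtype
  let a : K →ₗ[F] H := LinearMap.codRestrict H (g ∘ₗ H.subtype ∘ₗ K.subtype) fun k => k.2
  have ha : ∀ k : K, ((a k : H) : V) = g (k : H) := fun k => rfl
  have hainj : Function.Injective a := by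
    intro x y h
    have h1 := congrArg (fun z : H => (z : V)) h
    simp only [ha, ← he] at h1
    exact Subtype.ext (Subtype.ext (e.injective h1))
  obtain ⟨D, hDa, hDb⟩ := exists_pencil3 hq hKd a b hainj Subtype.val_injective
  -- the map on the hyperplane
  let φ' : H →ₗ[F] F := (φ ∘ₗ (e.symm : V →ₗ[F] V)) ∘ₗ H.subtype
  have hφ' : ∀ h : H, φ' h = φ (e.symm h) := fun h => rfl
  have hker : ∀ x, φ' x = 0 ↔ ∃ w, a w = x := by
    intro x
    constructor
    · intro h
      rw [hφ'] at h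
      refine ⟨⟨⟨e.symm x, h⟩, ?_⟩, ?_⟩
      · change φ (g (e.symm x)) = 0
        rw [← he, e.apply_symm_apply]; exact x.2
      · apply Subtype.ext
        rw [ha]
        change g (e.symm x) = x
        rw [← he, e.apply_symm_apply]
    · rintro ⟨w, rfl⟩
      rw [hφ', ha, ← he, e.symm_apply_apply]
      exact w.1.2
  obtain ⟨Z, hZa, hZO, hZc⟩ := exists_extend (p := p) hainj hker hDa hp (by omega)
  have hZinj : Function.Injective Z := by
    have h1 : LinearMap.det Z ≠ 0 := by
      rw [det_eq_charpoly, hZc]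
      exact mul_ne_zero (pow_ne_zero _ (by simp)) hp0
    exact (LinearMap.equivOfDetNeZero Z h1).injective
  -- the projection onto the hyperplane
  let π : V →ₗ[F] H := LinearMap.codRestrict H (LinearMap.id - φ.smulRight v) fun x => by
    simp [H, hv]
  have hπ : ∀ x, ((π x : H) : V) = x - φ x • v := fun x => rfl
  have hπH : ∀ x : H, π x = x := by
    intro x
    apply Subtype.ext
    rw [hπ, show φ (x : V) = 0 from x.2, zero_smul, sub_zero]
  let Y0 : End F V := g ∘ₗ H.subtype ∘ₗ Z ∘ₗ π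
  have hY0 : ∀ x, Y0 x = g (Z (π x) : H) := fun x => rfl
  have hO : Obs φ Y0 := by
    intro S h1 h2
    have h3 := hDb (((S.comap H.subtype).map Z).comap b) (by
      intro w hw
      obtain ⟨h, hh, hw⟩ := hw
      -- `a w ∈ S`
      have h4 : ((a w : H) : V) ∈ S := by
        rw [ha]
        have h5 := h2 h hh
        rw [hY0, hπH, hw] at h5
        exact h5
      have h5 : χ (D w) = 0 := by
        rw [hχ, ← hZa]
        have h6 := h1 _ (h2 _ h4)
        rw [hY0, hπH] at h6
        exact h6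
      refine ⟨⟨D w, h5⟩, ?_, rfl⟩
      exact ⟨a w, h4, hZa w⟩)
    rw [Submodule.eq_bot_iff] at h3 ⊢
    intro x hx
    have hxH : x ∈ H := h1 x hx
    have h4 : χ (Z ⟨x, hxH⟩) = 0 := by
      rw [hχ]
      have h6 := h1 _ (h2 _ hx)
      rw [hY0] at h6
      have h7 := hπH ⟨x, hxH⟩
      rw [show π x = ⟨x, hxH⟩ from h7] at h6
      exact h6
    have h5 := h3 ⟨Z ⟨x, hxH⟩, h4⟩ ⟨⟨x, hxH⟩, hx, rfl⟩
    have h6 : Z ⟨x, hxH⟩ = 0 := congrArg Subtype.val h5
    rw [← map_zero Z] at h6
    exact congrArg Subtype.val (hZinj h6)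
  obtain ⟨c, hYc⟩ := exists_charpoly_add hO hf hfd
  set Y : End F V := Y0 + φ.smulRight c with hYdef
  let M : End F V := (e.symm : V →ₗ[F] V) ∘ₗ Y
  have hgM : g * M = Y := by
    ext x
    change g (e.symm (Y x)) = Y x
    rw [← he, e.apply_symm_apply]
  have hM : ∀ x, M x = (Z (π x) : H) + φ x • e.symm c := by
    intro x
    change e.symm (Y x) = _
    rw [hYdef, LinearMap.add_apply, map_add, hY0, ← he, e.symm_apply_apply, LinearMap.smulRight_apply,
      map_smul]
  have hφM : ∀ x, φ (M x) = φ (e.symm c) * φ x := by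
    intro x
    rw [hM, map_add, show φ ((Z (π x) : H) : V) = 0 from (Z (π x)).2, zero_add, map_smul, smul_eq_mul,
      mul_comm]
  have hOY : Obs φ Y := hO.congr fun x hx => by
    rw [hYdef, LinearMap.add_apply, LinearMap.smulRight_apply, hx, zero_smul, add_zero]
  -- `M` in block form
  have hsim : ∃ R : F →ₗ[F] H, Sim (up Z R (φ (e.symm c) • (1 : End F F))) M := by
    let E : (H × F) ≃ₗ[F] V :=
      { toFun := fun x => (x.1 : V) + x.2 • v
        map_add' := fun x y => by simp only [Prod.fst_add, Prod.snd_add, Submodule.coe_add]; module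
        map_smul' := fun r x => by
          simp only [Prod.smul_fst, Prod.smul_snd, Submodule.coe_smul, RingHom.id_apply, smul_eq_mul]
          module
        invFun := fun x => (π x, φ x)
        left_inv := fun x => by
          have h1 : φ ((x.1 : V) + x.2 • v) = x.2 := by
            rw [map_add, map_smul, hv, show φ (x.1 : V) = 0 from x.1.2, zero_add, smul_eq_mul, mul_one]
          refine Prod.ext (Subtype.ext ?_) h1
          rw [hπ, h1, add_sub_cancel_right]
        right_inv := fun x => by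
          change ((π x : H) : V) + φ x • v = x
          rw [hπ, sub_add_cancel] }
    have hE : ∀ x, E x = (x.1 : V) + x.2 • v := fun x => rfl
    refine ⟨LinearMap.toSpanSingleton F H (π (e.symm c)), E, fun x => ?_⟩
    have h1 : φ ((x.1 : V) + x.2 • v) = x.2 := by
      rw [map_add, map_smul, hv, show φ (x.1 : V) = 0 from x.1.2, zero_add, smul_eq_mul, mul_one]
    have h2 : π ((x.1 : V) + x.2 • v) = x.1 := by
      apply Subtype.ext
      rw [hπ, h1, add_sub_cancel_right]
    rw [hE, hE, hM, h1, h2, up_apply]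
    simp only [Submodule.coe_add, LinearMap.toSpanSingleton_apply, Submodule.coe_smul,
      LinearMap.smul_apply, Module.End.one_apply, hπ, smul_eq_mul]
    module
  obtain ⟨R, hR⟩ := hsim
  have hMc : LinearMap.charpoly M = (X - C (φ (e.symm c))) * p := by
    rw [← hR.charpoly, charpoly_up, hZc, charpoly_smul_one, mul_comm]
  -- the eigenvalue
  have hνeq : φ (e.symm c) = ν := by
    have h1 : LinearMap.det Y = LinearMap.det g * LinearMap.det M := by rw [← hgM, map_mul]
    rw [det_eq_charpoly Y, det_eq_charpoly M, hYc, hMc, hc] at h1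
    have h2 := mul_left_cancel₀ hg0 h1
    have h3 := mul_left_cancel₀ (pow_ne_zero _ (by simp : (-1 : F) ≠ 0)) h2
    rw [mul_coeff_zero, mul_coeff_zero] at h3
    have h4 := mul_right_cancel₀ hp0 h3
    simpa using h4.symm
  rw [hνeq] at hMc hφM hR
  refine ⟨M, Y, φ, ?_, hMc, hYc, hgM, hOY, hφM⟩
  refine Coc.sim hR (Coc.up R ⟨φ', hZO⟩ (coc_smul_one ν) ?_)
  rw [hZc, charpoly_smul_one]
  have h5 : IsCoprime (X - C ν) p := by
    rw [(Polynomial.irreducible_X_sub_C ν).coprime_iff_not_dvd, Polynomial.dvd_iff_isRoot]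
    exact hpν
  exact h5.symm

end Cfsg.Agent.H143.Fact
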